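import Mathlib.Tactic

/-!
The Diophantine problems left by the coherence of the lattice of `3²:D₈`.
-/

set_option autoImplicit false
set_option maxRecDepth 100000

namespace CfsgLib.WreathNine

/-- integers in a residue class with bounded absolute value at least two -/
def resL (r : ℤ) (B : ℕ) : List ℤ :=
  ((List.range (2 * B + 1)).map fun i : ℕ => (i : ℤ) - (B : ℤ)).filter
    fun x => decide (x % 9 = r ∧ (x ≤ -2 ∨ 2 ≤ x))

theorem mem_resL {r x : ℤ} {B : ℕ} (h : x % 9 = r) (hx : x ≤ -2 ∨ 2 ≤ x) (h1 : -(B : ℤ) ≤ x) (h2 : x ≤ B) :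
    x ∈ resL r B := by
  refine List.mem_filter.2 ⟨List.mem_map.2 ⟨(x + B).toNat, List.mem_range.2 (by omega), by omega⟩, ?_⟩
  simp [h, hx]

/-- the possible index read off from `num / den = 9 / n` -/
def okN (num den S : ℤ) : Bool :=
  !(num == 0) && ((9 * den) % num == 0 &&
    (((9 * den) / num) % 9 == 1 && (decide (1 < (9 * den) / num) && decide (S ≤ 72 * ((9 * den) / num)))))

theorem okN_of {num den S : ℤ} {n : ℕ} (hd : den ≠ 0) (h : num * n = 9 * den) (h9 : n % 9 = 1) (h1 : 1 < n)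
    (hS : S ≤ 72 * (n : ℤ)) : okN num den S = true ∧ (9 * den) / num = n := by
  have hnum : num ≠ 0 := fun e => hd (by rw [e, zero_mul] at h; omega)
  have hq : (9 * den) / num = n := by rw [← h, Int.mul_ediv_cancel_left _ hnum]
  have hm : (9 * den) % num = 0 := by rw [← h, Int.mul_emod_right]
  have h9' : (n : ℤ) % 9 = 1 := by omega
  refine ⟨?_, hq⟩
  simp [okN, hq, hm, hnum, h9', hS, h1]

theorem term_lo {c : ℚ} (hc : 0 ≤ c) {x : ℤ} {B : ℕ} (hB : 0 < B) (h : x ≤ -(B : ℤ) ∨ 0 < x) :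
    -(c / (B : ℚ)) ≤ c / (x : ℚ) := by
  have hB' : (0 : ℚ) < B := Nat.cast_pos.2 hB
  rcases h with h | h
  · have hx : (B : ℚ) ≤ -(x : ℚ) := by exact_mod_cast (by omega : (B : ℤ) ≤ -x)
    have := div_le_div_of_nonneg_left hc hB' hx
    rw [div_neg] at this
    linarith
  · exact le_trans (neg_nonpos.2 (div_nonneg hc hB'.le)) (div_nonneg hc (Int.cast_nonneg h.le))

theorem term_hi {c : ℚ} (hc : 0 ≤ c) {x : ℤ} {B : ℕ} (hB : 0 < B) (h : (B : ℤ) ≤ x ∨ x < 0) :
    c / (x : ℚ) ≤ c / (B : ℚ) := by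
  have hB' : (0 : ℚ) < B := Nat.cast_pos.2 hB
  rcases h with h | h
  · exact div_le_div_of_nonneg_left hc hB' (by exact_mod_cast h)
  · exact le_trans (div_nonpos_of_nonneg_of_nonpos hc (Int.cast_nonpos.2 h.le)) (div_nonneg hc hB'.le)

theorem index_le {n : ℕ} (hn : 0 < n) {L : ℚ} (hL : L = 9 / n) {k : ℕ} (h : 9 / ((k : ℚ) + 1) < L) : n ≤ k := by
  by_contra hk
  have : (k : ℚ) + 1 ≤ n := by exact_mod_cast (by omega : k + 1 ≤ n)
  have := div_le_div_of_nonneg_left (show (0 : ℚ) ≤ 9 by norm_num) (by positivity) this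
  linarith

theorem abs_bound {x : ℤ} {C : ℕ} {S : ℤ} (hx : x * x ≤ S) (hS : S < ((C : ℤ) + 1) * ((C : ℤ) + 1)) :
    -(C : ℤ) ≤ x ∧ x ≤ C := by
  constructor <;> nlinarith

/-- the check of the first two patterns -/
def chkA : Bool :=
  (resL 4 41).all fun a => (resL 4 41).all fun b => (resL 4 41).all fun c =>
    let d := 1 + 2 * (b + c)
    let e := -a - 2 * b - 2 * c
    (d == 0 || e == 0) || !(okN (d * e - e - 8 * d) (d * e) (a * a + b * b + c * c + d * d + e * e))

theorem chkA_eq : chkA = true := by decide +kernel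

theorem pattern_A {n : ℕ} (h9 : n % 9 = 1) (h1 : 1 < n) {a b c d e : ℤ}
    (ha : a % 9 = 4) (hb : b % 9 = 4) (hc : c % 9 = 4) (hd : d % 9 = 8) (he : e % 9 = 7)
    (a2 : a ≤ -2 ∨ 2 ≤ a) (b2 : b ≤ -2 ∨ 2 ≤ b) (c2 : c ≤ -2 ∨ 2 ≤ c) (d2 : d ≤ -2 ∨ 2 ≤ d)
    (ed : d = 1 + 2 * (b + c)) (ee : e = -a - 2 * b - 2 * c)
    (hL : 1 - 1 / (d : ℚ) - 8 / (e : ℚ) = 9 / n)
    (hS : a * a + b * b + c * c + d * d + e * e ≤ 72 * (n : ℤ)) : False := by
  have hn : 0 < n := by omega
  have u := term_hi (show (0 : ℚ) ≤ 1 by norm_num) (x := d) (B := 8) (by norm_num) (by omega)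
  have hLpos : (0 : ℚ) < 9 / n := by positivity
  norm_num [-one_div] at u
  have he7 : e ≠ 7 := by
    intro h
    subst h
    have u' := term_lo (show (0 : ℚ) ≤ 1 by norm_num) (x := d) (B := 10) (by norm_num) (by omega)
    push_cast at hL
    norm_num [-one_div] at u'
    linarith
  have z := term_hi (show (0 : ℚ) ≤ 8 by norm_num) (x := e) (B := 16) (by norm_num) (by omega)
  norm_num [-one_div] at z
  have hk := index_le hn hL (k := 24) (by norm_num [-one_div]; linarith)
  have bd : ∀ x : ℤ, x * x ≤ 72 * (n : ℤ) → -((41 : ℕ) : ℤ) ≤ x ∧ x ≤ (41 : ℕ) := fun x hx =>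
    abs_bound hx (by push_cast; omega)
  have A1 := bd a (by nlinarith)
  have B1 := bd b (by nlinarith)
  have C1 := bd c (by nlinarith)
  have mA : a ∈ resL 4 41 := mem_resL ha a2 (by omega) (by omega)
  have mB : b ∈ resL 4 41 := mem_resL hb b2 (by omega) (by omega)
  have mC : c ∈ resL 4 41 := mem_resL hc c2 (by omega) (by omega)
  have := List.all_eq_true.1 (List.all_eq_true.1 (List.all_eq_true.1 chkA_eq a mA) b mB) c mC
  have d0 : (d : ℚ) ≠ 0 := Int.cast_ne_zero.2 (by omega)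
  have e0 : (e : ℚ) ≠ 0 := Int.cast_ne_zero.2 (by omega)
  have n0 : (n : ℚ) ≠ 0 := Nat.cast_ne_zero.2 hn.ne'
  have eq : (d * e - e - 8 * d) * (n : ℤ) = 9 * (d * e) := by
    field_simp at hL
    have : ((d : ℚ) * e - e - 8 * d) * n = 9 * (d * e) := by linear_combination hL
    exact_mod_cast this
  have hok := (okN_of (mul_ne_zero (show d ≠ 0 by omega) (show e ≠ 0 by omega)) eq h9 h1 hS).1
  simp only [← ed, ← ee, hok, Bool.not_true, Bool.or_false, Bool.or_eq_true, beq_iff_eq] at this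
  omega

/-- the check of the third pattern -/
def chkB : Bool :=
  (resL 4 40).all fun a => (resL 8 40).all fun b =>
    let d := -((a + b) / 2)
    let c := 1 - b - d
    (!((a + b) % 2 == 0) || (c == 0 || !(okN (a * b * c + 2 * b * c - 2 * a * c - a * b) (a * b * c)
      (2 * (a * a) + 2 * (b * b) + c * c + 2 * (d * d)))))

theorem chkB_eq : chkB = true := by decide +kernel

theorem pattern_B {n : ℕ} (h9 : n % 9 = 1) (h1 : 1 < n) {a b c d : ℤ}
    (ha : a % 9 = 4) (hb : b % 9 = 8) (hc : c % 9 = 8)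
    (a2 : a ≤ -2 ∨ 2 ≤ a) (b2 : b ≤ -2 ∨ 2 ≤ b) (c2 : c ≤ -2 ∨ 2 ≤ c)
    (ed : 2 * d = -(a + b)) (ec : c = 1 - b - d)
    (hL : 1 + 2 / (a : ℚ) - 2 / (b : ℚ) - 1 / (c : ℚ) = 9 / n)
    (hS : 2 * (a * a) + 2 * (b * b) + c * c + 2 * (d * d) ≤ 72 * (n : ℤ)) : False := by
  have hn : 0 < n := by omega
  have x := term_lo (show (0 : ℚ) ≤ 2 by norm_num) (x := a) (B := 5) (by norm_num) (by omega)
  have y := term_hi (show (0 : ℚ) ≤ 2 by norm_num) (x := b) (B := 8) (by norm_num) (by omega)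
  have z := term_hi (show (0 : ℚ) ≤ 1 by norm_num) (x := c) (B := 8) (by norm_num) (by omega)
  norm_num [-one_div] at x y z
  have hk := index_le hn hL (k := 43) (by norm_num [-one_div]; linarith)
  have bd : ∀ x : ℤ, x * x ≤ 36 * (n : ℤ) → -((39 : ℕ) : ℤ) ≤ x ∧ x ≤ (39 : ℕ) := fun x hx =>
    abs_bound hx (by push_cast; omega)
  have A1 := bd a (by nlinarith)
  have B1 := bd b (by nlinarith)
  have := List.all_eq_true.1 (List.all_eq_true.1 chkB_eq a (mem_resL ha a2 (by omega) (by omega))) b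
    (mem_resL hb b2 (by omega) (by omega))
  have a0 : (a : ℚ) ≠ 0 := Int.cast_ne_zero.2 (by omega)
  have b0 : (b : ℚ) ≠ 0 := Int.cast_ne_zero.2 (by omega)
  have c0 : (c : ℚ) ≠ 0 := Int.cast_ne_zero.2 (by omega)
  have n0 : (n : ℚ) ≠ 0 := Nat.cast_ne_zero.2 hn.ne'
  have eq : (a * b * c + 2 * b * c - 2 * a * c - a * b) * (n : ℤ) = 9 * (a * b * c) := by
    field_simp at hL
    have : ((a : ℚ) * b * c + 2 * b * c - 2 * a * c - a * b) * n = 9 * (a * b * c) := by linear_combination hL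
    exact_mod_cast this
  have hd : -((a + b) / 2) = d := by omega
  have he : (a + b) % 2 = 0 := by omega
  have hok := (okN_of (mul_ne_zero (mul_ne_zero (show a ≠ 0 by omega) (show b ≠ 0 by omega)) (show c ≠ 0 by omega))
    eq h9 h1 hS).1
  simp [hd, ← ec, hok, he] at this
  omega

/-- what survives in the last pattern -/
def survOK (a b n : ℤ) : Bool :=
  n == 10 || (((a == 4 || a == -5) || b == -5) && n % 7 == 0) || (a == 4 && n % 19 == 0)

/-- the check at one point of the last pattern -/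
def ptC (a b q : ℤ) : Bool :=
  let d := b - a - 1
  let e := 1 - q - b
  let den := a * b * d * q * e
  let num := den + 2 * b * d * q * e + 2 * a * d * q * e - a * b * q * e - 2 * a * b * d * e - 8 * a * b * d * q
  (decide (-1 ≤ d ∧ d ≤ 1) || decide (-1 ≤ e ∧ e ≤ 1)) || (!(okN num den (2 * (a * a) + 2 * (b * b) + d * d + 2 * (q * q) + e * e)) || survOK a b (9 * den / num))

/-- boxes with unrestricted variables -/
def chkBox (As Bs Qs : List ℤ) : Bool := As.all fun a => Bs.all fun b => Qs.all fun q => ptC a b q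

/-- boxes with fixed largest degree -/
def chkPlane (e : ℤ) (As Qs : List ℤ) : Bool := As.all fun a => Qs.all fun q => ptC a (1 - q - e) q

theorem chkC_box : chkBox (resL 4 46) (resL 4 46) (resL 8 46) = true ∧
    chkBox [-5] (resL 4 124) (resL 8 124) = true ∧ chkBox (resL 4 124) [-5] (resL 8 124) = true := by
  decide +kernel

theorem chkC_plane : chkPlane 16 (resL 4 124) (resL 8 124) = true ∧
    chkPlane 25 (resL 4 124) (resL 8 124) = true ∧ chkPlane 34 (resL 4 124) (resL 8 124) = true ∧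
    chkPlane 7 (resL 4 400) (resL 8 200) = true ∧ chkPlane 7 [13] (resL 8 700) = true := by
  decide +kernel

set_option maxHeartbeats 800000 in
theorem pattern_C {n : ℕ} (h9 : n % 9 = 1) (h1 : 1 < n) {a b q d e : ℤ}
    (ha : a % 9 = 4) (hb : b % 9 = 4) (hq : q % 9 = 8)
    (a2 : a ≤ -2 ∨ 2 ≤ a) (b2 : b ≤ -2 ∨ 2 ≤ b) (q2 : q ≤ -2 ∨ 2 ≤ q) (d2 : d ≤ -2 ∨ 2 ≤ d)
    (e2 : e ≤ -2 ∨ 2 ≤ e)
    (ed : d = b - a - 1) (ee : e = 1 - q - b)
    (hL : 1 + 2 / (a : ℚ) + 2 / (b : ℚ) - 1 / (d : ℚ) - 2 / (q : ℚ) - 8 / (e : ℚ) = 9 / n)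
    (hS : 2 * (a * a) + 2 * (b * b) + d * d + 2 * (q * q) + e * e ≤ 72 * (n : ℤ)) :
    n = 10 ∨ (((a = 4 ∨ a = -5) ∨ b = -5) ∧ 7 ∣ n) ∨ (a = 4 ∧ 19 ∣ n) := by
  have hn : 0 < n := by omega
  have hLpos : (0 : ℚ) < 9 / n := by positivity
  have a0 : (a : ℚ) ≠ 0 := Int.cast_ne_zero.2 (by omega)
  have b0 : (b : ℚ) ≠ 0 := Int.cast_ne_zero.2 (by omega)
  have d0 : (d : ℚ) ≠ 0 := Int.cast_ne_zero.2 (by omega)
  have q0 : (q : ℚ) ≠ 0 := Int.cast_ne_zero.2 (by omega)
  have e0 : (e : ℚ) ≠ 0 := Int.cast_ne_zero.2 (by omega)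
  have n0 : (n : ℚ) ≠ 0 := Nat.cast_ne_zero.2 hn.ne'
  -- a checked point
  have done : ptC a b q = true → n = 10 ∨ (((a = 4 ∨ a = -5) ∨ b = -5) ∧ 7 ∣ n) ∨ (a = 4 ∧ 19 ∣ n) := by
    intro h
    have eq : (a * b * d * q * e + 2 * b * d * q * e + 2 * a * d * q * e - a * b * q * e - 2 * a * b * d * e -
        8 * a * b * d * q) * (n : ℤ) = 9 * (a * b * d * q * e) := by
      field_simp at hL
      have : ((a : ℚ) * b * d * q * e + 2 * b * d * q * e + 2 * a * d * q * e - a * b * q * e - 2 * a * b * d * e -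
          8 * a * b * d * q) * n = 9 * (a * b * d * q * e) := by linear_combination hL
      exact_mod_cast this
    have hden : a * b * d * q * e ≠ 0 := by
      refine mul_ne_zero (mul_ne_zero (mul_ne_zero (mul_ne_zero ?_ ?_) ?_) ?_) ?_ <;> omega
    have hok := okN_of hden eq h9 h1 hS
    simp only [ptC, ← ed, ← ee, hok.1, hok.2, Bool.not_true, Bool.false_or, Bool.or_eq_true, beq_iff_eq,
      survOK, Bool.and_eq_true] at h
    have h7 : ∀ k : ℕ, (n : ℤ) % (k : ℤ) = 0 → k ∣ n := fun k hk =>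
      Int.natCast_dvd_natCast.1 (Int.dvd_of_emod_eq_zero hk)
    rcases h with h | ((h | h) | h)
    · exfalso
      simp only [decide_eq_true_eq] at h
      omega
    · left; omega
    · exact Or.inr (Or.inl ⟨h.1, h7 7 h.2⟩)
    · exact Or.inr (Or.inr ⟨h.1, h7 19 h.2⟩)
  -- a positive lower bound for the sum bounds the degrees
  have small : (21 / 1000 : ℚ) ≤ 9 / n → (-((124 : ℕ) : ℤ) ≤ a ∧ a ≤ (124 : ℕ)) ∧ (-((124 : ℕ) : ℤ) ≤ b ∧ b ≤ (124 : ℕ)) ∧
      (-((124 : ℕ) : ℤ) ≤ q ∧ q ≤ (124 : ℕ)) := by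
    intro h
    have hk := index_le hn rfl (k := 428) (lt_of_lt_of_le (by norm_num) h)
    refine ⟨abs_bound (S := 36 * (n : ℤ)) ?_ ?_, abs_bound (S := 36 * (n : ℤ)) ?_ ?_,
      abs_bound (S := 36 * (n : ℤ)) ?_ ?_⟩ <;> first | (push_cast; omega) | nlinarith
  have u8 := term_hi (show (0 : ℚ) ≤ 1 by norm_num) (x := d) (B := 8) (by norm_num) (by omega)
  norm_num [-one_div] at u8
  have w8 := term_hi (show (0 : ℚ) ≤ 2 by norm_num) (x := q) (B := 8) (by norm_num) (by omega)
  norm_num [-one_div] at w8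
  by_cases he7 : e = 7
  · have hz : (8 : ℚ) / (e : ℚ) = 8 / 7 := by rw [he7]; norm_num
    rw [hz] at hL
    obtain ⟨Q1, Q2, A1, A2⟩ : -((700 : ℕ) : ℤ) ≤ q ∧ q ≤ (700 : ℕ) ∧
        (a = 13 ∨ -((200 : ℕ) : ℤ) ≤ q ∧ q ≤ (200 : ℕ)) ∧
        (a = 13 ∨ -((400 : ℕ) : ℤ) ≤ a ∧ a ≤ (400 : ℕ)) := by
      have hqb : -(200 : ℤ) ≤ q ∧ q ≤ 200 ∨ (a = 13 ∧ -(700 : ℤ) ≤ q ∧ q ≤ 700) := by
        by_contra hcon
        push Not at hcon
        have hqbig : q ≤ -201 ∨ 201 ≤ q := by omega
        have y1 := term_hi (show (0 : ℚ) ≤ 2 by norm_num) (x := b) (B := 195) (by norm_num) (by omega)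
        have y2 := term_lo (show (0 : ℚ) ≤ 2 by norm_num) (x := b) (B := 195) (by norm_num) (by omega)
        have w1 := term_hi (show (0 : ℚ) ≤ 2 by norm_num) (x := q) (B := 201) (by norm_num) (by omega)
        have w2 := term_lo (show (0 : ℚ) ≤ 2 by norm_num) (x := q) (B := 201) (by norm_num) (by omega)
        have u10 := term_lo (show (0 : ℚ) ≤ 1 by norm_num) (x := d) (B := 10) (by norm_num) (by omega)
        norm_num [-one_div] at y1 y2 w1 w2 u10
        rcases (show (a ≤ -101 ∨ 101 ≤ a) ∨ (-100 ≤ a ∧ a < 0) ∨ a = 4 ∨ a = 13 ∨ (22 ≤ a ∧ a ≤ 100) by omega)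
          with h | h | h | h | h
        · have x1 := term_hi (show (0 : ℚ) ≤ 2 by norm_num) (x := a) (B := 101) (by norm_num) (by omega)
          norm_num [-one_div] at x1
          linarith
        · have x1 : (2 : ℚ) / (a : ℚ) ≤ 0 :=
            div_nonpos_of_nonneg_of_nonpos (by norm_num) (Int.cast_nonpos.2 h.2.le)
          have u1 := term_lo (show (0 : ℚ) ≤ 1 by norm_num) (x := d) (B := 94) (by norm_num) (by omega)
          norm_num [-one_div] at u1
          linarith
        · have u1 := term_hi (show (0 : ℚ) ≤ 1 by norm_num) (x := d) (B := 94) (by norm_num) (by omega)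
          norm_num [-one_div] at u1
          subst h
          push_cast at hL
          have hk := index_le hn hL (k := 28) (by norm_num [-one_div]; linarith)
          have := abs_bound (x := q) (C := 32) (S := 36 * (n : ℤ)) (by nlinarith) (by push_cast; omega)
          omega
        · subst h
          have hq7 : q ≤ -701 ∨ 701 ≤ q := by omega
          have y2 := term_lo (show (0 : ℚ) ≤ 2 by norm_num) (x := b) (B := 694) (by norm_num) (by omega)
          have w1 := term_hi (show (0 : ℚ) ≤ 2 by norm_num) (x := q) (B := 701) (by norm_num) (by omega)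
          have u1 := term_hi (show (0 : ℚ) ≤ 1 by norm_num) (x := d) (B := 680) (by norm_num) (by omega)
          norm_num [-one_div] at y2 w1 u1
          push_cast at hL
          have hk := index_le hn hL (k := 2400) (by norm_num [-one_div]; linarith)
          have := abs_bound (x := q) (C := 293) (S := 36 * (n : ℤ)) (by nlinarith) (by push_cast; omega)
          omega
        · have x1 := term_hi (show (0 : ℚ) ≤ 2 by norm_num) (x := a) (B := 22) (by norm_num) (by omega)
          have u1 := term_lo (show (0 : ℚ) ≤ 1 by norm_num) (x := d) (B := 94) (by norm_num) (by omega)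
          norm_num [-one_div] at x1 u1
          linarith
      by_cases h13 : a = 13
      · refine ⟨?_, ?_, Or.inl h13, Or.inl h13⟩ <;> omega
      have hq200 : -(200 : ℤ) ≤ q ∧ q ≤ 200 := by omega
      refine ⟨by omega, by omega, Or.inr ⟨by omega, by omega⟩, Or.inr ?_⟩
      by_contra hcon
      push_cast at hcon
      have x1 := term_hi (show (0 : ℚ) ≤ 2 by norm_num) (x := a) (B := 401) (by norm_num) (by omega)
      have x2 := term_lo (show (0 : ℚ) ≤ 2 by norm_num) (x := a) (B := 401) (by norm_num) (by omega)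
      have u1 := term_hi (show (0 : ℚ) ≤ 1 by norm_num) (x := d) (B := 193) (by norm_num) (by omega)
      have u2 := term_lo (show (0 : ℚ) ≤ 1 by norm_num) (x := d) (B := 193) (by norm_num) (by omega)
      norm_num [-one_div] at x1 x2 u1 u2
      rcases (show 8 ≤ q ∨ q ≤ -37 ∨ (-28 ≤ q ∧ q ≤ -10) by omega) with h | h | h
      · have y1 : (2 : ℚ) / (b : ℚ) ≤ 0 :=
          div_nonpos_of_nonneg_of_nonpos (by norm_num) (Int.cast_nonpos.2 (by omega))
        have w1 : (0 : ℚ) ≤ 2 / (q : ℚ) := div_nonneg (by norm_num) (Int.cast_nonneg (by omega))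
        linarith
      · have y1 := term_hi (show (0 : ℚ) ≤ 2 by norm_num) (x := b) (B := 31) (by norm_num) (by omega)
        have w1 := term_lo (show (0 : ℚ) ≤ 2 by norm_num) (x := q) (B := 37) (by norm_num) (by omega)
        norm_num [-one_div] at y1 w1
        linarith
      · have y1 : (2 : ℚ) / 22 ≤ 2 / (b : ℚ) :=
          div_le_div_of_nonneg_left (by norm_num) (Int.cast_pos.2 (by omega)) (by exact_mod_cast (by omega : b ≤ 22))
        have w1 : (2 : ℚ) / 28 ≤ 2 / (-(q : ℚ)) :=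
          div_le_div_of_nonneg_left (by norm_num) (neg_pos.2 (Int.cast_lt_zero.2 (by omega)))
            (by exact_mod_cast (by omega : -q ≤ 28))
        rw [div_neg] at w1
        have hk := index_le hn hL (k := 980) (by norm_num [-one_div]; linarith)
        have := abs_bound (x := a) (C := 190) (S := 36 * (n : ℤ)) (by nlinarith) (by push_cast; omega)
        omega
    refine done ?_
    have hb' : b = 1 - q - 7 := by omega
    rw [hb']
    by_cases h13 : a = 13
    · exact List.all_eq_true.1 (List.all_eq_true.1 chkC_plane.2.2.2.2 a (by simp [h13])) q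
        (mem_resL hq q2 Q1 Q2)
    · have A1' := A1.resolve_left h13
      have A2' := A2.resolve_left h13
      exact List.all_eq_true.1 (List.all_eq_true.1 chkC_plane.2.2.2.1 a (mem_resL ha a2 A2'.1 A2'.2)) q
        (mem_resL hq q2 A1'.1 A1'.2)
  by_cases hes : e = 16 ∨ e = 25 ∨ e = 34
  · have z := term_hi (show (0 : ℚ) ≤ 8 by norm_num) (x := e) (B := 16) (by norm_num) (by omega)
    norm_num [-one_div] at z
    have hb' : b = 1 - q - e := by omega
    have inbox : (-((124 : ℕ) : ℤ) ≤ a ∧ a ≤ (124 : ℕ)) ∧ (-((124 : ℕ) : ℤ) ≤ q ∧ q ≤ (124 : ℕ)) := by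
      by_contra hcon
      suffices h : (21 / 1000 : ℚ) ≤ 9 / n from hcon ⟨(small h).1, (small h).2.2⟩
      rw [← hL]
      rcases (show (q ≤ -125 ∨ 125 ≤ q) ∨ ((-124 ≤ q ∧ q ≤ 124) ∧ (a ≤ -125 ∨ 125 ≤ a)) by
        push_cast at hcon; omega) with h | ⟨hq', h⟩
      · have y2 := term_lo (show (0 : ℚ) ≤ 2 by norm_num) (x := b) (B := 91) (by norm_num) (by omega)
        have w1 := term_hi (show (0 : ℚ) ≤ 2 by norm_num) (x := q) (B := 125) (by norm_num) (by omega)
        norm_num [-one_div] at y2 w1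
        by_cases h5 : a = -5
        · have u1 := term_hi (show (0 : ℚ) ≤ 1 by norm_num) (x := d) (B := 87) (by norm_num) (by omega)
          norm_num [-one_div] at u1
          subst h5
          push_cast
          linarith
        · have x1 := term_lo (show (0 : ℚ) ≤ 2 by norm_num) (x := a) (B := 14) (by norm_num) (by omega)
          norm_num [-one_div] at x1
          linarith
      · have x1 := term_lo (show (0 : ℚ) ≤ 2 by norm_num) (x := a) (B := 125) (by norm_num) (by omega)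
        norm_num [-one_div] at x1
        rcases (show 8 ≤ q ∨ q ≤ -10 by omega) with h' | h'
        · have y2 := term_lo (show (0 : ℚ) ≤ 2 by norm_num) (x := b) (B := 23) (by norm_num) (by omega)
          norm_num [-one_div] at y2
          linarith
        · by_cases h5 : b = -5
          · have w1 : (2 : ℚ) / 28 ≤ 2 / (-(q : ℚ)) :=
              div_le_div_of_nonneg_left (by norm_num) (neg_pos.2 (Int.cast_lt_zero.2 (by omega)))
                (by exact_mod_cast (by omega : -q ≤ 28))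
            rw [div_neg] at w1
            subst h5
            push_cast
            linarith
          · have y2 := term_lo (show (0 : ℚ) ≤ 2 by norm_num) (x := b) (B := 14) (by norm_num) (by omega)
            have w1 : (2 : ℚ) / (q : ℚ) ≤ 0 :=
              div_nonpos_of_nonneg_of_nonpos (by norm_num) (Int.cast_nonpos.2 (by omega))
            norm_num [-one_div] at y2
            linarith
    refine done ?_
    rw [hb']
    obtain ⟨mA, mQ⟩ : a ∈ resL 4 124 ∧ q ∈ resL 8 124 :=
      ⟨mem_resL ha a2 inbox.1.1 inbox.1.2, mem_resL hq q2 inbox.2.1 inbox.2.2⟩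
    rcases hes with rfl | rfl | rfl
    · exact List.all_eq_true.1 (List.all_eq_true.1 chkC_plane.1 a mA) q mQ
    · exact List.all_eq_true.1 (List.all_eq_true.1 chkC_plane.2.1 a mA) q mQ
    · exact List.all_eq_true.1 (List.all_eq_true.1 chkC_plane.2.2.1 a mA) q mQ
  have z := term_hi (show (0 : ℚ) ≤ 8 by norm_num) (x := e) (B := 43) (by norm_num) (by omega)
  norm_num [-one_div] at z
  by_cases ha5 : a = -5
  · have h : (21 / 1000 : ℚ) ≤ 9 / n := by
      rw [← hL]
      subst ha5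
      push_cast
      rcases (show b ≤ -14 ∨ 4 ≤ b by omega) with h' | h'
      · have y2 := term_lo (show (0 : ℚ) ≤ 2 by norm_num) (x := b) (B := 14) (by norm_num) (by omega)
        have u1 : (1 : ℚ) / (d : ℚ) ≤ 0 :=
          div_nonpos_of_nonneg_of_nonpos (by norm_num) (Int.cast_nonpos.2 (by omega))
        norm_num [-one_div] at y2 u1
        linarith
      · have y2 : (0 : ℚ) ≤ 2 / (b : ℚ) := div_nonneg (by norm_num) (Int.cast_nonneg (by omega))
        linarith
    obtain ⟨-, ⟨B1, B2⟩, Q1, Q2⟩ := small h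
    exact done (List.all_eq_true.1 (List.all_eq_true.1 (List.all_eq_true.1 chkC_box.2.1 a (by simp [ha5])) b
      (mem_resL hb b2 B1 B2)) q (mem_resL hq q2 Q1 Q2))
  have x14 := term_lo (show (0 : ℚ) ≤ 2 by norm_num) (x := a) (B := 14) (by norm_num) (by omega)
  norm_num [-one_div] at x14
  by_cases hb5 : b = -5
  · have h : (21 / 1000 : ℚ) ≤ 9 / n := by
      rw [← hL]
      subst hb5
      push_cast
      rcases (show 43 ≤ e ∨ e < 0 by omega) with h' | h'
      · have w1 : (2 : ℚ) / (q : ℚ) ≤ 0 :=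
          div_nonpos_of_nonneg_of_nonpos (by norm_num) (Int.cast_nonpos.2 (by omega))
        linarith
      · have z0 : (8 : ℚ) / (e : ℚ) ≤ 0 := div_nonpos_of_nonneg_of_nonpos (by norm_num) (Int.cast_nonpos.2 h'.le)
        linarith
    obtain ⟨⟨A1, A2⟩, -, Q1, Q2⟩ := small h
    exact done (List.all_eq_true.1 (List.all_eq_true.1 (List.all_eq_true.1 chkC_box.2.2 a
      (mem_resL ha a2 A1 A2)) b (by simp [hb5])) q (mem_resL hq q2 Q1 Q2))
  have y14 := term_lo (show (0 : ℚ) ≤ 2 by norm_num) (x := b) (B := 14) (by norm_num) (by omega)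
  norm_num [-one_div] at y14
  have hk := index_le hn hL (k := 59) (by norm_num [-one_div]; linarith)
  have bd : ∀ x : ℤ, x * x ≤ 36 * (n : ℤ) → -((46 : ℕ) : ℤ) ≤ x ∧ x ≤ (46 : ℕ) := fun x hx =>
    abs_bound hx (by push_cast; omega)
  have A1 := bd a (by nlinarith)
  have B1 := bd b (by nlinarith)
  have Q1 := bd q (by nlinarith)
  exact done (List.all_eq_true.1 (List.all_eq_true.1 (List.all_eq_true.1 chkC_box.1 a
    (mem_resL ha a2 (by omega) (by omega))) b (mem_resL hb b2 (by omega) (by omega))) q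
    (mem_resL hq q2 (by omega) (by omega)))

end CfsgLib.WreathNine
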