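import Mathlib.GroupTheory.SpecificGroups.Dihedral
import Mathlib.Data.ZMod.Basic
import Mathlib.Data.Fintype.Prod
import Mathlib.Data.Fintype.Perm
import Mathlib.Data.Fintype.Pi
import Mathlib.Algebra.Group.Subgroup.Basic

/-!
The group `3²:D₈ = S₃ ≀ 2` with the integral characters used for its exceptional character lattice.
-/

set_option autoImplicit false
set_option maxRecDepth 100000

namespace CfsgLib.WreathNine

/-- the vectors -/
abbrev Vec := Fin 3 × Fin 3

/-- the dihedral group of order eight -/
abbrev DihEight := DihedralGroup 4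

/-- the rotation -/
def rot (v : Vec) : Vec := (-v.2, v.1)

/-- the reflection -/
def refl (v : Vec) : Vec := (v.1, -v.2)

/-- the action -/
def act : DihEight → Vec → Vec
  | .r k, v => rot^[(k : ZMod 4).val] v
  | .sr k, v => refl (rot^[(k : ZMod 4).val] v)

/-- the elements -/
structure Grp where
  /-- translation part -/
  v : Vec
  /-- complement part -/
  s : DihEight
deriving DecidableEq

/-- the obvious bijection -/
def Grp.toProd : Grp ≃ Vec × DihEight :=
  ⟨fun x => (x.v, x.s), fun p => ⟨p.1, p.2⟩, fun _ => rfl, fun _ => rfl⟩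

instance : Fintype Grp := Fintype.ofEquiv _ Grp.toProd.symm

theorem act_mul : ∀ (a b : DihEight) (v : Vec), act (a * b) v = act a (act b v) := by decide +kernel
theorem act_add : ∀ (a : DihEight) (v w : Vec), act a (v + w) = act a v + act a w := by decide +kernel

instance : Mul Grp := ⟨fun x y => ⟨x.v + act x.s y.v, x.s * y.s⟩⟩
instance : One Grp := ⟨⟨0, 1⟩⟩
instance : Inv Grp := ⟨fun x => ⟨act x.s⁻¹ (-x.v), x.s⁻¹⟩⟩

theorem grp_mul_def (x y : Grp) : x * y = ⟨x.v + act x.s y.v, x.s * y.s⟩ := rfl

theorem grp_axioms : ∀ x : Grp, 1 * x = x ∧ x * 1 = x ∧ x⁻¹ * x = 1 := by decide +kernel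

instance : Group Grp where
  mul_assoc x y z := by simp only [grp_mul_def, act_add, act_mul, add_assoc, mul_assoc]
  one_mul x := (grp_axioms x).1
  mul_one x := (grp_axioms x).2.1
  inv_mul_cancel x := (grp_axioms x).2.2

theorem card_grp : Fintype.card Grp = 72 := by decide +kernel

/-- the translations -/
def IsTr (x : Grp) : Prop := x.s = 1

instance : DecidablePred IsTr := fun x => inferInstanceAs (Decidable (x.s = 1))

/-- the first homomorphism to signs: whether the two axes are swapped -/
def swp : DihEight → ℤ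
  | .r k => if k.val % 2 = 0 then 1 else -1
  | .sr k => if k.val % 2 = 0 then 1 else -1

/-- the second homomorphism to signs: the determinant -/
def dtm : DihEight → ℤ
  | .r _ => 1
  | .sr _ => -1

theorem sign_mul : ∀ a b : DihEight, swp (a * b) = swp a * swp b ∧ dtm (a * b) = dtm a * dtm b ∧
    (swp a = 1 ∨ swp a = -1) ∧ (dtm a = 1 ∨ dtm a = -1) := by decide +kernel

/-- the action on nine points -/
def nineMap (x : Grp) (p : Vec) : Vec := x.v + act x.s p

/-- the action on the six lines parallel to an axis: coordinate and value -/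
def sixMap (x : Grp) (p : Fin 2 × Fin 3) : Fin 2 × Fin 3 :=
  let e : Vec := if p.1 = 0 then (1, 0) else (0, 1)
  let a : Fin 2 := if (act x.s e).2 = 0 then 0 else 1
  let sgn : Fin 3 := if a = 0 then (act x.s e).1 else (act x.s e).2
  (a, (if a = 0 then x.v.1 else x.v.2) + sgn * p.2)

/-- the action on the four signed axes -/
def fourMap (x : Grp) (p : Fin 2 × Fin 2) : Fin 2 × Fin 2 :=
  let c : Fin 3 := if p.2 = 0 then 1 else -1
  let w : Vec := act x.s (if p.1 = 0 then (c, 0) else (0, c))
  (if w.2 = 0 then 0 else 1, if w.1 + w.2 = 1 then 0 else 1)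

theorem nineMap_mul (x y : Grp) (p : Vec) : nineMap (x * y) p = nineMap x (nineMap y p) := by
  simp only [nineMap, grp_mul_def, act_add, act_mul, add_assoc]

theorem sixMap_mul : ∀ (x y : Grp) (p : Fin 2 × Fin 3), sixMap (x * y) p = sixMap x (sixMap y p) := by
  decide +kernel

theorem fourMap_mul : ∀ (x y : Grp) (p : Fin 2 × Fin 2), fourMap (x * y) p = fourMap x (fourMap y p) := by
  decide +kernel

theorem map_one' : (∀ p, nineMap 1 p = p) ∧ (∀ p, sixMap 1 p = p) ∧ ∀ p, fourMap 1 p = p := by decide +kernel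

/-- permutation characters -/
def fix {α : Type} [Fintype α] [DecidableEq α] (f : Grp → α → α) (x : Grp) : ℤ :=
  ((Finset.univ.filter fun p => f x p = p).card : ℤ)

/-- the sign characters -/
def lamS (x : Grp) : ℤ := swp x.s
/-- the sign characters -/
def lamD (x : Grp) : ℤ := dtm x.s
/-- the character of degree two -/
def psi (x : Grp) : ℤ := fix fourMap x - 1 - lamS x
/-- a character of degree four -/
def aA (x : Grp) : ℤ := fix sixMap x - 1 - lamS x
/-- a character of degree four -/
def bB (x : Grp) : ℤ := fix nineMap x - 1 - aA x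

/-- the lattice of functions vanishing off the elements with a nontrivial translation as a power -/
def bas : ℕ → Grp → ℤ
  | 0, x => aA x - 1 - lamS x - psi x
  | 1, x => aA x * lamD x - lamD x - lamS x * lamD x - psi x
  | 2, x => bB x - 1 - lamS x * lamD x - psi x
  | 3, x => bB x * lamD x - lamD x - lamS x - psi x
  | _, _ => 0

/-- the Gram matrix -/
def gram (i j : ℕ) : ℤ :=
  (([[4, 1, 2, 2], [1, 4, 2, 2], [2, 2, 4, 1], [2, 2, 1, 4]] : List (List ℤ)).getD i []).getD j 0

/-- inner products with the trivial character -/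
def triv (j : ℕ) : ℤ := ([-1, 0, -1, 0] : List ℤ).getD j 0

theorem gram_check : ∀ i : ℕ, i < 4 → ∀ j : ℕ, j < 4 → ∑ x, bas i x * bas j x = 72 * gram i j := by decide +kernel
theorem triv_check : ∀ j : ℕ, j < 4 → ∑ x, bas j x = 72 * triv j := by decide +kernel

/-- representatives of the two classes of translations -/
def rp (i : Fin 2) : Grp := ⟨if i = 0 then (1, 0) else (1, 1), 1⟩

/-- the class of a translation -/
def InCl (i : Fin 2) (x : Grp) : Prop := IsTr x ∧ x ≠ 1 ∧ (i = 0 ↔ x.v.1 = 0 ∨ x.v.2 = 0)

instance (i : Fin 2) : DecidablePred (InCl i) := fun x => by unfold InCl; infer_instance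

/-- coefficients of the class indicators -/
def phiC (i : Fin 2) : List ℤ := if i = 0 then [1, 1, -2, -2] else [-2, -2, 1, 1]

theorem phi_check : ∀ (i : Fin 2) (x : Grp),
    (phiC i).getD 0 0 * bas 0 x + (phiC i).getD 1 0 * bas 1 x + (phiC i).getD 2 0 * bas 2 x +
      (phiC i).getD 3 0 * bas 3 x = if InCl i x then 18 else 0 := by decide +kernel

theorem inCl_conj : ∀ (i : Fin 2) (x : Grp), InCl i x ↔ ∃ h : Grp, h * rp i * h⁻¹ = x := by decide +kernel
theorem exists_cl : ∀ x : Grp, IsTr x → x ≠ 1 → ∃ i, InCl i x := by decide +kernel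
theorem rp_facts : ∀ i : Fin 2, InCl i (rp i) ∧ InCl i (rp i)⁻¹ ∧
    (Finset.univ.filter fun g : Grp => g * rp i * g⁻¹ = rp i).card = 18 ∧
    (Finset.univ.filter (InCl i)).card = 4 := by decide +kernel
theorem inCl_unique : ∀ (i j : Fin 2) (x : Grp), InCl i x → InCl j x → i = j := by decide +kernel
theorem tr_cube : ∀ x : Grp, IsTr x ↔ x * x * x = 1 := by decide +kernel

theorem supp : ∀ x : Grp, (∀ j : ℕ, j < 4 → bas j x = 0) ∨ (IsTr (x ^ 2) ∧ x ^ 2 ≠ 1) := by decide +kernel

/-- number of factorisations -/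
def pairCount (i j l : Fin 2) : ℕ :=
  (Finset.univ.filter fun v : Vec => InCl i ⟨v, 1⟩ ∧ InCl j ((⟨v, 1⟩ : Grp)⁻¹ * rp l)).card

theorem pairCount_eq : pairCount 0 0 1 = 2 ∧ pairCount 0 1 1 = 2 := by decide +kernel

/-- four times the indicator of the translations -/
def reg (x : Grp) : ℤ := if IsTr x then 8 else 0

end CfsgLib.WreathNine
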