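import Cfsg.Agent.Lib.NineNormalizer.GramSearch
import Cfsg.Agent.Lib.WreathNine.Model
import Cfsg.Agent.Lib.WreathNine.Bounds
import Mathlib.Tactic

/-!
Coherence of the lattice of `3²:D₈`: the coefficient matrices and what they allow.
-/

set_option autoImplicit false
set_option maxRecDepth 100000

namespace CfsgLib.WreathNine

/-- the candidates of the search, level by level -/
def levels (i : ℕ) : List (List (List ℤ)) := ([
  [[]],
  [[[1], [1], [1]]],
  [[[-1, 1], [1, 1], [1, 1], [1, 0]],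
    [[0, 1], [0, 1], [1, 1], [1, 0], [1, 0], [1, 0]]],
  [[[0, -1, 1], [0, 1, 1], [1, 1, 1], [1, 1, 0], [1, 0, 0]],
    [[0, 0, 1], [0, 0, 1], [1, 1, 1], [0, 1, 0], [0, 1, 0], [1, 1, 0], [1, 0, 0]],
    [[0, 0, 1], [1, 0, 1], [0, 1, 1], [0, 1, 0], [1, 1, 0], [1, 1, 0]]],
  [[[0, 0, -1, 1], [1, 0, 1, 1], [1, 1, 1, 1], [0, 1, 1, 0], [0, 1, 0, 0], [1, 0, 0, 0], [1, 0, 0, 0]],
    [[0, 0, 0, 1], [1, 0, 0, 1], [1, 1, 1, 1], [0, 0, 1, 0], [0, 0, 1, 0], [1, 1, 1, 0], [-1, 1, 0, 0]],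
    [[0, 0, 0, 1], [1, 0, 0, 1], [1, 1, 1, 1], [0, 0, 1, 0], [1, 0, 1, 0], [0, 1, 1, 0], [0, 1, 0, 0], [1, 0, 0, 0]],
    [[1, 0, 0, 1], [1, 0, 0, 1], [0, 1, 1, 1], [0, 0, 1, 0], [1, 0, 1, 0], [1, 1, 1, 0], [0, 1, 0, 0]],
    [[0, 0, 0, 1], [1, 1, 0, 1], [1, 0, 1, 1], [1, 0, 1, 0], [0, 1, 1, 0], [0, 1, 1, 0], [1, 0, 0, 0]],
    [[1, 0, 0, 1], [0, 1, 0, 1], [1, 0, 1, 1], [0, 0, 1, 0], [0, 1, 1, 0], [1, 1, 1, 0], [1, 0, 0, 0]]]] : List (List (List (List ℤ)))).getD i []

/-- the Gram matrix without the trivial character -/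
def gram' (i j : ℕ) : ℤ := gram i j - triv i * triv j

theorem levels_check : ∀ i : ℕ, i < 4 → GramSearch.check gram' i (levels i) (levels (i + 1)) = true := by
  decide +kernel

theorem gram'_le : ∀ i : ℕ, i < 4 → gram' i i ≤ 8 := by decide +kernel

/-- an entry of a column -/
def entry (c : List ℤ) (j : ℕ) : ℤ := c.getD (3 - j) 0

/-- the value at the `i`th class -/
def fcol (i : Fin 2) (c : List ℤ) : ℤ := ((List.range 4).map fun j => (phiC i).getD j 0 * entry c j).sum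

/-- the value at the `i`th class as a combination of the coefficients -/
def fval {ι : Type*} (a : ℕ → ι → ℤ) (i : Fin 2) (χ : ι) : ℤ :=
  ((List.range 4).map fun k => (phiC i).getD k 0 * a k χ).sum

theorem entry_mk (f : ℕ → ℤ) {j : ℕ} (hj : j < 4) : entry (GramSearch.mk f 4) j = f j := by
  interval_cases j <;> rfl

/-- what is known about the signed degrees -/
structure Facts (n : ℕ) (L : List (List ℤ)) (D : List ℤ) : Prop where
  len : D.length = L.length
  deg : ∀ j < 4, (((L.zip D).map fun p => entry p.1 j * p.2).sum + triv j = 0)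
  mom : ∀ j : Fin 2, (((L.zip D).map fun p => (fcol 0 p.1 * fcol j p.1 * fcol 1 p.1 : ℤ) / (p.2 : ℚ)).sum + 1 = 9 / n)
  ne : ∀ p ∈ L.zip D, p.2 ≤ -2 ∨ 2 ≤ p.2
  cong : ∀ p ∈ L.zip D, (9 : ℤ) ∣ p.2 + 4 * (fcol 0 p.1 + fcol 1 p.1)
  size : (D.map fun d => d * d).sum ≤ 72 * n

/-- an entry that occurs once gives a character which no symmetry of the lattice moves -/
def Fixed {ι : Type*} (a : ℕ → ι → ℤ) (dg : ι → ℕ) (d : ℤ) : Prop :=
  ∃ χ, (dg χ : ℤ) = |d| ∧ ∀ χ', (∀ j < 4, a j χ' = a j χ) → χ' = χ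

theorem facts_of {ι : Type*} [Fintype ι] {a : ℕ → ι → ℤ} {n : ℕ} (ha : ∀ j, 4 ≤ j → ∀ χ, a j χ = 0)
    (dg : ι → ℕ) (hd : ∀ χ, 2 ≤ dg χ) {L : List (List ℤ)} (hL : GramSearch.Described a 4 L)
    (hdeg : ∀ j < 4, ∑ χ, a j χ * dg χ + triv j = 0)
    (hmom : ∀ j : Fin 2, ∑ χ, (fval a 0 χ * fval a j χ * fval a 1 χ : ℤ) / (dg χ : ℚ) + 1 = 9 / n)
    (hcong : ∀ χ, (9 : ℤ) ∣ dg χ + 4 * (fval a 0 χ + fval a 1 χ))
    (hsize : ∑ χ, dg χ * dg χ ≤ 72 * n) :
    ∃ D, Facts n L D ∧ (L.Nodup → ∀ p ∈ L.zip D, p.1 ≠ List.replicate 4 0 → Fixed a dg p.2) := by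
  classical
  obtain ⟨l, hnd, rfl, hz⟩ := hL
  set s := GramSearch.sgn a with hs
  have hsc : ∀ χ, s χ = 1 ∨ s χ = -1 := GramSearch.sgn_cases a
  have he : ∀ χ, ∀ j < 4, entry (GramSearch.col a 4 χ) j = s χ * a j χ := fun χ j hj => entry_mk _ hj
  have hf : ∀ χ i, fcol i (GramSearch.col a 4 χ) = s χ * fval a i χ := fun χ i => by
    rw [fcol, fval, ← List.sum_map_mul_left]
    exact congrArg List.sum (List.map_congr_left fun j hj => by rw [he χ j (List.mem_range.1 hj)]; ring)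
  have hout : ∀ χ, χ ∉ l → ∀ i, fval a i χ = 0 := fun χ hχ i => List.sum_eq_zero fun x hx => by
    obtain ⟨k, hk, rfl⟩ := List.mem_map.1 hx
    rw [hz χ hχ k (List.mem_range.1 hk), mul_zero]
  have hsum : ∀ {R : Type} [AddCommMonoid R] (T : ι → R), (∀ χ, χ ∉ l → T χ = 0) → ∑ χ, T χ = (l.map T).sum :=
    fun {R} _ T hT => by
      rw [← List.sum_toFinset T hnd]
      exact (Finset.sum_subset (Finset.subset_univ _) fun χ _ hχ => hT χ (by simpa using hχ)).symm
  refine ⟨l.map fun χ => s χ * dg χ, ⟨by simp, fun j hj => ?_, fun k => ?_, fun p hp => ?_, fun p hp => ?_, ?_⟩,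
    fun hL p hp hp0 => ?_⟩
  · rw [List.zip_map', List.map_map, ← hdeg j hj, hsum (fun χ => a j χ * dg χ) fun χ hχ => by rw [hz χ hχ j hj, zero_mul]]
    congr 2
    refine List.map_congr_left fun χ _ => ?_
    simp only [Function.comp_apply, he χ j hj]
    rcases hsc χ with h | h <;> simp [h]
  · have h := hmom k
    rw [hsum (fun χ => (fval a 0 χ * fval a k χ * fval a 1 χ : ℤ) / (dg χ : ℚ)) fun χ hχ => by simp [hout χ hχ]] at h
    rw [List.zip_map', List.map_map, ← h]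
    congr 2
    refine List.map_congr_left fun χ _ => ?_
    simp only [Function.comp_apply, hf]
    rcases hsc χ with e | e <;> simp [e, neg_div_neg_eq]
  · rw [List.zip_map'] at hp
    obtain ⟨χ, -, rfl⟩ := List.mem_map.1 hp
    have := hd χ
    rcases hsc χ with e | e <;> simp [e] <;> omega
  · rw [List.zip_map'] at hp
    obtain ⟨χ, -, rfl⟩ := List.mem_map.1 hp
    simp only [hf]
    have h := dvd_mul_of_dvd_right (hcong χ) (s χ)
    rw [show s χ * (dg χ : ℤ) + 4 * (s χ * fval a 0 χ + s χ * fval a 1 χ) =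
      s χ * ((dg χ : ℤ) + 4 * (fval a 0 χ + fval a 1 χ)) by ring]
    exact h
  · rw [List.map_map]
    calc ((l.map ((fun d => d * d) ∘ fun χ => s χ * dg χ))).sum = (l.map fun χ => ((dg χ * dg χ : ℕ) : ℤ)).sum := by
          refine congrArg List.sum (List.map_congr_left fun χ _ => ?_)
          simp only [Function.comp_apply]
          rcases hsc χ with e | e <;> simp [e]
      _ = ((∑ χ ∈ l.toFinset, dg χ * dg χ : ℕ) : ℤ) := by rw [← List.sum_toFinset _ hnd, Nat.cast_sum]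
      _ ≤ _ := by
          exact_mod_cast le_trans (Finset.sum_le_sum_of_subset_of_nonneg (Finset.subset_univ _)
            fun _ _ _ => Nat.zero_le _) hsize
  · rw [List.zip_map'] at hp
    obtain ⟨χ, hχ, rfl⟩ := List.mem_map.1 hp
    refine ⟨χ, ?_, fun χ' h' => ?_⟩
    · have := hd χ
      rcases hsc χ with e | e <;> simp [e]
    · have hall : ∀ j, a j χ' = a j χ := fun j => by
        rcases lt_or_ge j 4 with hj | hj
        · exact h' j hj
        · rw [ha j hj, ha j hj]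
      have hcol : GramSearch.col a 4 χ' = GramSearch.col a 4 χ := by
        simp only [GramSearch.col, GramSearch.sgn, hall]
      by_cases hm : χ' ∈ l
      · exact List.inj_on_of_nodup_map hL hm hχ hcol
      · refine absurd ?_ hp0
        show GramSearch.col a 4 χ = _
        rw [← hcol, GramSearch.col, GramSearch.mk_congr (g := fun _ => (0 : ℤ)) (fun j hj => by simp [hz χ' hm j hj]),
          GramSearch.mk_zero]

set_option maxHeartbeats 800000 in
/-- The coherence leaves the index ten, or a character of small degree fixed by all symmetries. -/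
theorem dichotomy {ι : Type*} [Fintype ι] {a : ℕ → ι → ℤ} {n : ℕ} (h9 : n % 9 = 1) (h1 : 1 < n)
    (ha : ∀ j, 4 ≤ j → ∀ χ, a j χ = 0) (dg : ι → ℕ) (hd : ∀ χ, 2 ≤ dg χ)
    (hgram : ∀ i < 4, ∀ j ≤ i, ∑ χ, a i χ * a j χ = gram' i j)
    (hdeg : ∀ j < 4, ∑ χ, a j χ * dg χ + triv j = 0)
    (hmom : ∀ j : Fin 2, ∑ χ, (fval a 0 χ * fval a j χ * fval a 1 χ : ℤ) / (dg χ : ℚ) + 1 = 9 / n)
    (hcong : ∀ χ, (9 : ℤ) ∣ dg χ + 4 * (fval a 0 χ + fval a 1 χ))
    (hsize : ∑ χ, dg χ * dg χ ≤ 72 * n) :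
    n = 10 ∨ ∃ χ, ∃ p : ℕ, p.Prime ∧ p ∣ 72 * n ∧ dg χ + 1 < p ∧ ∀ χ', (∀ j < 4, a j χ' = a j χ) → χ' = χ := by
  obtain ⟨L, hL, hdes⟩ := GramSearch.search levels (List.mem_singleton.2 rfl) gram'_le hgram levels_check
  obtain ⟨D, hD, hfix⟩ := facts_of ha dg hd hdes hdeg hmom hcong hsize
  obtain ⟨hlen, hdg, hmo, hne, hco, hsz⟩ := hD
  have g0 := hdg 0 (by norm_num)
  have g1 := hdg 1 (by norm_num)
  have g2 := hdg 2 (by norm_num)
  have g3 := hdg 3 (by norm_num)
  have m0 := hmo 0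
  have m1 := hmo 1
  simp only [levels, List.getD_cons_succ, List.getD_cons_zero, List.mem_cons, List.not_mem_nil, or_false] at hL
  rcases hL with rfl | rfl | rfl | rfl | rfl | rfl
  · match D, hlen with
    | [d0, d1, d2, d3, d4, d5, d6], _ =>
      norm_num [entry, triv, List.zip_cons_cons] at g0 g1 g2 g3
      simp [fcol, entry, phiC, List.range_succ, List.zip_cons_cons, div_eq_mul_inv] at m0 m1
      simp [fcol, entry, phiC, List.range_succ, List.zip_cons_cons] at hne hco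
      simp at hsz
      exfalso
      refine pattern_A h9 h1 (a := d4) (b := d5) (c := d6) (d := d3) (e := d2) ?_ ?_ ?_ ?_ ?_ ?_ ?_ ?_ ?_ ?_ ?_ ?_ ?_
      any_goals omega
      · linear_combination (1 / 3 : ℚ) * m0 + (2 / 3 : ℚ) * m1
      · linarith [mul_self_nonneg d0, mul_self_nonneg d1]
  · match D, hlen with
    | [d0, d1, d2, d3, d4, d5, d6], _ =>
      norm_num [entry, triv, List.zip_cons_cons] at g0 g1 g2 g3
      simp [fcol, entry, phiC, List.range_succ, List.zip_cons_cons, div_eq_mul_inv] at m0 m1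
      simp [fcol, entry, phiC, List.range_succ, List.zip_cons_cons] at hne hco
      simp at hsz
      exfalso
      refine pattern_A h9 h1 (a := d0) (b := d3) (c := d4) (d := d1) (e := d2) ?_ ?_ ?_ ?_ ?_ ?_ ?_ ?_ ?_ ?_ ?_ ?_ ?_
      any_goals omega
      · linear_combination (2 / 3 : ℚ) * m0 + (1 / 3 : ℚ) * m1
      · linarith [mul_self_nonneg d5, mul_self_nonneg d6]
  · match D, hlen with
    | [d0, d1, d2, d3, d4, d5, d6, d7], _ =>
      norm_num [entry, triv, List.zip_cons_cons] at g0 g1 g2 g3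
      simp [fcol, entry, phiC, List.range_succ, List.zip_cons_cons, div_eq_mul_inv] at m0 m1
      simp [fcol, entry, phiC, List.range_succ, List.zip_cons_cons] at hne hco
      simp at hsz
      obtain ⟨n0, n1, n2, n3, n4, n5, n6, n7⟩ := hne
      obtain ⟨o0, o1, o2, o3, o4, o5, o6, o7⟩ := hco
      have hinv : (d0 : ℚ)⁻¹ + (d3 : ℚ)⁻¹ = (d6 : ℚ)⁻¹ + (d7 : ℚ)⁻¹ := by
        linear_combination (-1 / 6 : ℚ) * m0 + (1 / 6 : ℚ) * m1
      have hsum : d0 + d3 = d6 + d7 := by omega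
      have hprod : d0 * d3 = d6 * d7 := by
        have q0 : (d0 : ℚ) ≠ 0 := Int.cast_ne_zero.2 (by omega)
        have q3 : (d3 : ℚ) ≠ 0 := Int.cast_ne_zero.2 (by omega)
        have q6 : (d6 : ℚ) ≠ 0 := Int.cast_ne_zero.2 (by omega)
        have q7 : (d7 : ℚ) ≠ 0 := Int.cast_ne_zero.2 (by omega)
        have hs : ((d0 : ℚ) + d3) = d6 + d7 := by exact_mod_cast hsum
        have hs0 : ((d6 : ℚ) + d7) ≠ 0 := by exact_mod_cast (show d6 + d7 ≠ 0 by omega)
        field_simp at hinv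
        have h : ((d6 : ℚ) + d7) * ((d0 : ℚ) * d3 - d6 * d7) = 0 := by
          linear_combination (-1 : ℚ) * hinv + (d6 : ℚ) * d7 * hs
        have := sub_eq_zero.1 ((mul_eq_zero.1 h).resolve_left hs0)
        exact_mod_cast this
      have hsplit : (d6 - d0) * (d6 - d3) = 0 := by
        linear_combination hprod - d6 * hsum
      rcases mul_eq_zero.1 hsplit with h | h
      swap
      · exfalso; omega
      obtain rfl : d6 = d0 := by omega
      obtain rfl : d7 = d3 := by omega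
      obtain rfl : d5 = d1 := by omega
      rcases pattern_C h9 h1 (a := d7) (b := d6) (q := d5) (d := d4) (e := d2) (by omega) (by omega) (by omega)
        n3 n0 n1 n4 n2 (by omega) (by omega) (by linear_combination (1 / 2 : ℚ) * m0 + (1 / 2 : ℚ) * m1)
        (by linarith) with h | ⟨h, h7⟩ | ⟨h, h19⟩
      · exact Or.inl h
      · right
        have hL : (levels 4).getD 2 [] |>.Nodup := by decide
        simp only [levels, List.getD_cons_succ, List.getD_cons_zero] at hL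
        have hh : Fixed a dg d7 ∧ Fixed a dg d6 := ⟨hfix hL ([0, 0, 1, 0], d7) (by simp) (by simp),
          hfix hL ([0, 0, 0, 1], d6) (by simp) (by simp)⟩
        obtain ⟨χ, hχ, hu⟩ : ∃ χ, dg χ ≤ 5 ∧ ∀ χ', (∀ j < 4, a j χ' = a j χ) → χ' = χ := by
          rcases h with (rfl | rfl) | rfl
          · obtain ⟨⟨χ, hχ, hu⟩, -⟩ := hh; exact ⟨χ, by norm_num at hχ; omega, hu⟩
          · obtain ⟨⟨χ, hχ, hu⟩, -⟩ := hh; exact ⟨χ, by norm_num at hχ; omega, hu⟩
          · obtain ⟨-, χ, hχ, hu⟩ := hh; exact ⟨χ, by norm_num at hχ; omega, hu⟩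
        exact ⟨χ, 7, by norm_num, h7.mul_left _, by omega, hu⟩
      · right
        have hL : (levels 4).getD 2 [] |>.Nodup := by decide
        simp only [levels, List.getD_cons_succ, List.getD_cons_zero] at hL
        subst h
        obtain ⟨χ, hχ, hu⟩ := hfix hL ([0, 0, 1, 0], 4) (by simp) (by simp)
        exact ⟨χ, 19, by norm_num, h19.mul_left _, by norm_num at hχ; omega, hu⟩
  · match D, hlen with
    | [d0, d1, d2, d3, d4, d5, d6], _ =>
      norm_num [entry, triv, List.zip_cons_cons] at g0 g1 g2 g3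
      simp [fcol, entry, phiC, List.range_succ, List.zip_cons_cons, div_eq_mul_inv] at m0 m1
      simp [fcol, entry, phiC, List.range_succ, List.zip_cons_cons] at hne hco
      exfalso
      have h : (d6 : ℚ)⁻¹ = (d3 : ℚ)⁻¹ := by linear_combination (1 / 6 : ℚ) * m0 + (-1 / 6 : ℚ) * m1
      have : d6 = d3 := by exact_mod_cast inv_inj.1 h
      omega
  · match D, hlen with
    | [d0, d1, d2, d3, d4, d5, d6], _ =>
      norm_num [entry, triv, List.zip_cons_cons] at g0 g1 g2 g3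
      simp [fcol, entry, phiC, List.range_succ, List.zip_cons_cons, div_eq_mul_inv] at m0 m1
      simp [fcol, entry, phiC, List.range_succ, List.zip_cons_cons] at hne hco
      exfalso
      have h : (d6 : ℚ)⁻¹ = (d0 : ℚ)⁻¹ := by linear_combination (1 / 6 : ℚ) * m0 + (-1 / 6 : ℚ) * m1
      have : d6 = d0 := by exact_mod_cast inv_inj.1 h
      omega
  · match D, hlen with
    | [d0, d1, d2, d3, d4, d5, d6], _ =>
      norm_num [entry, triv, List.zip_cons_cons] at g0 g1 g2 g3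
      simp [fcol, entry, phiC, List.range_succ, List.zip_cons_cons, div_eq_mul_inv] at m0 m1
      simp [fcol, entry, phiC, List.range_succ, List.zip_cons_cons] at hne hco
      simp at hsz
      exfalso
      have h : (d6 : ℚ)⁻¹ = (d3 : ℚ)⁻¹ := by linear_combination (1 / 6 : ℚ) * m0 + (-1 / 6 : ℚ) * m1
      obtain rfl : d6 = d3 := by exact_mod_cast inv_inj.1 h
      obtain rfl : d4 = d0 := by omega
      obtain rfl : d5 = d2 := by omega
      refine pattern_B h9 h1 (a := d6) (b := d4) (c := d1) (d := d5) ?_ ?_ ?_ ?_ ?_ ?_ ?_ ?_ ?_ ?_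
      any_goals omega
      · linear_combination (1 / 2 : ℚ) * m0 + (1 / 2 : ℚ) * m1
      all_goals linarith

end CfsgLib.WreathNine
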