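import Cfsg.Agent.Lib.WreathNine.Setup
import Cfsg.Agent.Lib.WreathNine.Arith
import Cfsg.Agent.Lib.ThreeNine.Local
import Cfsg.Agent.Lib.PermChar.Basic
import Cfsg.Agent.Lib.Char.Exceptional
import Cfsg.Agent.Lib.Char.SchurBound
import Cfsg.Agent.Lib.CharDeep.ClassSum
import Cfsg.Agent.Lib.TwoP.Degrees
import Cfsg.Agent.Lib.SmallOrder.Auto

/-!
A group with a self-centralizing Sylow subgroup `3²` whose normalizer `3²:D₈` contains the centralizers of
its nonidentity elements is not simple.
-/

set_option autoImplicit false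
set_option maxRecDepth 100000

open scoped ComplexConjugate

namespace CfsgLib.WreathNine

section Chars

/-- the action on nine points -/
@[reducible] def nineAct : MulAction Grp Vec :=
  { smul := nineMap, one_smul := map_one'.1, mul_smul := nineMap_mul }

/-- the action on six lines -/
@[reducible] def sixAct : MulAction Grp (Fin 2 × Fin 3) :=
  { smul := sixMap, one_smul := map_one'.2.1, mul_smul := sixMap_mul }

/-- the action on four axes -/
@[reducible] def fourAct : MulAction Grp (Fin 2 × Fin 2) :=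
  { smul := fourMap, one_smul := map_one'.2.2, mul_smul := fourMap_mul }

theorem isGen_fix {α : Type} [Fintype α] [DecidableEq α] [MulAction Grp α] :
    Cfsg.IsGeneralizedCharacter Grp fun x => ((fix (fun g (p : α) => g • p) x : ℤ) : ℂ) := by
  classical
  refine Char.IsCharacter.isGeneralizedCharacter ?_
  convert PermChar.isCharacter_piFun (G := Grp) (Ω := α) using 1
  funext x
  simp only [fix, PermChar.piFun, Int.cast_natCast]
  rw [Nat.card_eq_fintype_card, Fintype.card_subtype]
  rfl

/-- a sign homomorphism -/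
noncomputable def signHom (f : DihEight → ℤ) (h : ∀ a b, f (a * b) = f a * f b) (h1 : f 1 = 1) : Grp →* ℂˣ :=
  MonoidHom.toHomUnits
    { toFun := fun x => ((f x.s : ℤ) : ℂ)
      map_one' := by rw [show (1 : Grp).s = 1 from rfl, h1]; simp
      map_mul' := fun x y => by rw [show (x * y).s = x.s * y.s from rfl, h]; push_cast; rfl }

theorem isGen_bas {j : ℕ} (hj : j < 4) : Cfsg.IsGeneralizedCharacter Grp fun x => (bas j x : ℂ) := by
  have h9 : Cfsg.IsGeneralizedCharacter Grp fun x => (fix nineMap x : ℂ) := by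
    letI := nineAct; exact isGen_fix
  have h6 : Cfsg.IsGeneralizedCharacter Grp fun x => (fix sixMap x : ℂ) := by
    letI := sixAct; exact isGen_fix
  have h4 : Cfsg.IsGeneralizedCharacter Grp fun x => (fix fourMap x : ℂ) := by
    letI := fourAct; exact isGen_fix
  have hS : Cfsg.IsGeneralizedCharacter Grp fun x => (lamS x : ℂ) :=
    Char.IsIrrCharacter.isGeneralizedCharacter
      (Char.isIrrCharacter_linear (signHom swp (fun a b => (sign_mul a b).1) (by decide)))
  have hD : Cfsg.IsGeneralizedCharacter Grp fun x => (lamD x : ℂ) :=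
    Char.IsIrrCharacter.isGeneralizedCharacter
      (Char.isIrrCharacter_linear (signHom dtm (fun a b => (sign_mul a b).2.1) (by decide)))
  have h1 : Cfsg.IsGeneralizedCharacter Grp fun _ : Grp => (1 : ℂ) := Char.IsGeneralizedCharacter.one
  have hP : Cfsg.IsGeneralizedCharacter Grp fun x => (psi x : ℂ) := by
    convert Char.IsGeneralizedCharacter.sub (Char.IsGeneralizedCharacter.sub h4 h1) hS using 1
    funext x; simp [psi]
  have hA : Cfsg.IsGeneralizedCharacter Grp fun x => (aA x : ℂ) := by
    convert Char.IsGeneralizedCharacter.sub (Char.IsGeneralizedCharacter.sub h6 h1) hS using 1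
    funext x; simp [aA]
  have hB : Cfsg.IsGeneralizedCharacter Grp fun x => (bB x : ℂ) := by
    convert Char.IsGeneralizedCharacter.sub (Char.IsGeneralizedCharacter.sub h9 h1) hA using 1
    funext x; simp [bB]
  interval_cases j
  · convert Char.IsGeneralizedCharacter.sub (Char.IsGeneralizedCharacter.sub
      (Char.IsGeneralizedCharacter.sub hA h1) hS) hP using 1
    funext x; simp [bas]
  · convert Char.IsGeneralizedCharacter.sub (Char.IsGeneralizedCharacter.sub
      (Char.IsGeneralizedCharacter.sub (Char.IsGeneralizedCharacter.mul hA hD) hD)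
      (Char.IsGeneralizedCharacter.mul hS hD)) hP using 1
    funext x; simp [bas]
  · convert Char.IsGeneralizedCharacter.sub (Char.IsGeneralizedCharacter.sub
      (Char.IsGeneralizedCharacter.sub hB h1) (Char.IsGeneralizedCharacter.mul hS hD)) hP using 1
    funext x; simp [bas]
  · convert Char.IsGeneralizedCharacter.sub (Char.IsGeneralizedCharacter.sub
      (Char.IsGeneralizedCharacter.sub (Char.IsGeneralizedCharacter.mul hB hD) hD) hS) hP using 1
    funext x; simp [bas]

/-- the translations -/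
def tr : Subgroup Grp :=
  (MonoidHom.mk' (fun x : Grp => x.s) fun _ _ => rfl).ker

theorem mem_tr (x : Grp) : x ∈ tr ↔ IsTr x := Iff.rfl

theorem isGen_reg : Cfsg.IsGeneralizedCharacter Grp (fun x => (reg x : ℂ)) := by
  classical
  have h := Char.IsGeneralizedCharacter.indFun (G := Grp) tr (Char.IsGeneralizedCharacter.one (G := tr))
  convert h using 1
  funext g
  rw [Char.indFun_apply]
  have hc : Nat.card tr = 9 := by
    rw [show Nat.card tr = Nat.card {x : Grp // IsTr x} from rfl, Nat.card_eq_fintype_card, Fintype.card_subtype]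
    decide +kernel
  have hn : tr.Normal := MonoidHom.normal_ker _
  by_cases hg : IsTr g
  · rw [Finset.sum_congr rfl (g := fun _ => (1 : ℂ)) fun x _ => ?_, Finset.sum_const, Finset.card_univ,
      card_grp, hc]
    · simp only [reg, if_pos hg]
      norm_num
    · rw [Char.extendByZero_apply_mem tr _ (by simpa using hn.conj_mem g hg x⁻¹)]
      rfl
  · rw [Finset.sum_eq_zero fun x _ => ?_, mul_zero]
    · simp [reg, hg]
    refine Char.extendByZero_of_notMem tr _ fun hm => hg ?_
    have := hn.conj_mem _ hm x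
    simpa [mul_assoc, mem_tr] using this

theorem bas_pow : ∀ r : ℕ, r < 12 → Nat.Coprime r 12 → ∀ j : ℕ, j < 4 → ∀ x : Grp, bas j (x ^ r) = bas j x := by
  decide +kernel

theorem pow_twelve : ∀ x : Grp, x ^ 12 = 1 := by decide +kernel

theorem tr_split : ∀ x : Grp,
    reg x = 8 * ((if x = 1 then 1 else 0) + (if InCl 0 x then 1 else 0) + (if InCl 1 x then 1 else 0)) := by
  decide +kernel

theorem bas_one : ∀ j : ℕ, j < 4 → bas j 1 = 0 := by decide +kernel

end Chars

section Main

variable {G : Type*} [Group G] [Fintype G] (M : Sylow 3 G) (N : Subgroup G)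
  (hN : N = Subgroup.normalizer ((M : Subgroup G) : Set G)) (e : ↥N ≃* Grp)
  (he : ∀ x : N, (x : G) ∈ (M : Subgroup G) ↔ IsTr (e x))
  (hCM : Subgroup.centralizer ((M : Subgroup G) : Set G) = (M : Subgroup G))
  (hCg : ∀ g ∈ (M : Subgroup G), g ≠ 1 → Subgroup.centralizer ({g} : Set G) ≤ N)

/-- the embedding of the model -/
def emb : Grp →* G := N.subtype.comp e.symm.toMonoidHom

/-- the representatives in the group -/
def wG (i : Fin 2) : G := emb N e (rp i)

theorem emb_mem (x : Grp) : emb N e x ∈ N := SetLike.coe_mem _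

theorem emb_injective : Function.Injective (emb N e) := fun _ _ h => e.symm.injective (Subtype.ext h)

theorem exists_emb {g : G} (hg : g ∈ N) : ∃ x, emb N e x = g := ⟨e ⟨g, hg⟩, by simp [emb]⟩

include he in
theorem mem_M_iff (x : Grp) : emb N e x ∈ (M : Subgroup G) ↔ IsTr x := by
  simpa [emb] using he (e.symm x)

include hN e he in
theorem eq_M_of_le {P : Subgroup G} (hP : IsPGroup 3 P) (hle : P ≤ N) : P ≤ (M : Subgroup G) := by
  haveI := Fact.mk Nat.prime_three
  have hsup := IsPGroup.to_sup_of_normal_right' hP M.2 (hN ▸ hle)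
  exact le_trans le_sup_left (le_of_eq (M.3 hsup le_sup_right))

include hN hCM hCg in
theorem sylow_eq {P : Sylow 3 G} (hab : IsMulCommutative (P : Subgroup G)) {m : G} (hmM : m ∈ (M : Subgroup G))
    (hm1 : m ≠ 1) (hmP : m ∈ (P : Subgroup G)) : (P : Subgroup G) = M := by
  haveI := Fact.mk Nat.prime_three
  have hle : (P : Subgroup G) ≤ N := fun y hy => hCg m hmM hm1 (Subgroup.mem_centralizer_singleton_iff.2
    (congrArg Subtype.val (hab.is_comm.comm (⟨y, hy⟩ : (P : Subgroup G)) ⟨m, hmP⟩)))
  have hsup := IsPGroup.to_sup_of_normal_right' P.2 M.2 (hN ▸ hle)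
  exact (P.3 M.2 (le_trans le_sup_left (le_of_eq (M.3 hsup le_sup_right)))).symm

include hCM in
theorem comm_M : IsMulCommutative (M : Subgroup G) :=
  ⟨⟨fun a b => Subtype.ext (Subgroup.mem_centralizer_iff.1 (show (b : G) ∈ Subgroup.centralizer ((M : Subgroup G) : Set G)
    by rw [hCM]; exact b.2) a a.2)⟩⟩

include hCM in
theorem comm_all (P : Sylow 3 G) : IsMulCommutative (P : Subgroup G) := by
  haveI := Fact.mk Nat.prime_three
  haveI := comm_M M hCM
  obtain ⟨ψ⟩ := (⟨Sylow.equiv P M⟩ : Nonempty (↥(P : Subgroup G) ≃* ↥(M : Subgroup G)))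
  exact ⟨⟨fun a b => ψ.injective (by rw [map_mul, map_mul]; exact (comm_M M hCM).is_comm.comm _ _)⟩⟩

include hN hCM hCg in
theorem ti {g m : G} (hm : m ∈ (M : Subgroup G)) (hm1 : m ≠ 1) (hg : g * m * g⁻¹ ∈ (M : Subgroup G)) : g ∈ N := by
  haveI := Fact.mk Nat.prime_three
  have hgm : g * m * g⁻¹ ≠ 1 := fun h => hm1 (conj_eq_one_iff.1 h)
  have hP := sylow_eq M N hN hCM hCg (P := g • M) (comm_all M hCM _) hg hgm (by
    rw [Sylow.coe_subgroup_smul]
    exact Subgroup.smul_mem_pointwise_smul m (MulAut.conj g) _ hm)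
  rw [hN]
  exact Sylow.smul_eq_iff_mem_normalizer.1 (Sylow.ext hP)

include hN hCM hCg in
theorem hloc (P : Sylow 3 G) (t : G) (ht : t ∈ (P : Subgroup G)) (ht1 : t ≠ 1) :
    Subgroup.centralizer ({t} : Set G) ≤ Subgroup.normalizer ((P : Subgroup G) : Set G) := by
  haveI := Fact.mk Nat.prime_three
  obtain ⟨g, rfl⟩ := MulAction.exists_smul_eq G M P
  intro c hc
  refine Sylow.smul_eq_iff_mem_normalizer.1 ?_
  obtain ⟨m, hm, rfl⟩ : ∃ m ∈ (M : Subgroup G), g * m * g⁻¹ = t := by
    rw [Sylow.coe_subgroup_smul] at ht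
    obtain ⟨m, hm, h⟩ := ht
    exact ⟨m, hm, h⟩
  have hm1 : m ≠ 1 := fun h => ht1 (by rw [h]; group)
  have hc' : g⁻¹ * c * g ∈ N := hCg m hm hm1 (Subgroup.mem_centralizer_singleton_iff.2 (by
    have h := Subgroup.mem_centralizer_singleton_iff.1 hc
    calc g⁻¹ * c * g * m = g⁻¹ * (c * (g * m * g⁻¹)) * g := by group
      _ = g⁻¹ * ((g * m * g⁻¹) * c) * g := by rw [h]
      _ = m * (g⁻¹ * c * g) := by group))
  rw [hN] at hc'
  replace hc' := Sylow.smul_eq_iff_mem_normalizer.2 hc'
  rw [← mul_smul, show c * g = g * (g⁻¹ * c * g) by group, mul_smul, hc']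

include he in
theorem wG_mem (i : Fin 2) : wG N e i ∈ (M : Subgroup G) := (mem_M_iff M N e he _).2 (rp_facts i).1.1

theorem wG_ne (i : Fin 2) : wG N e i ≠ 1 := fun h =>
  (rp_facts i).1.2.1 (emb_injective N e (h.trans (map_one _).symm))

theorem isConj_wG_inv (i : Fin 2) : IsConj (wG N e i) (wG N e i)⁻¹ := by
  obtain ⟨h, hh⟩ := (inCl_conj i _).1 (rp_facts i).2.1
  exact isConj_iff.2 ⟨emb N e h, by rw [wG, ← map_inv, ← map_mul, ← map_mul, ← map_inv, hh]⟩

include hN he hCM hCg in
theorem inCl_iff {k : Fin 2} {x : Grp} (hx : IsTr x) : InCl k x ↔ IsConj (wG N e k) (emb N e x) := by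
  constructor
  · intro hk
    obtain ⟨h, rfl⟩ := (inCl_conj k x).1 hk
    exact isConj_iff.2 ⟨emb N e h, by rw [wG, ← map_inv, ← map_mul, ← map_mul]⟩
  · intro h
    obtain ⟨g, hg⟩ := isConj_iff.1 h
    have hgN := ti M N hN hCM hCg (wG_mem M N e he k) (wG_ne N e k) (hg ▸ (mem_M_iff M N e he x).2 hx)
    obtain ⟨y, rfl⟩ := exists_emb N e hgN
    rw [wG, ← map_inv, ← map_mul, ← map_mul] at hg
    exact (inCl_conj k x).2 ⟨y, emb_injective N e hg⟩

include hN he hCM hCg in
theorem card_centralizer (i : Fin 2) : Nat.card (Subgroup.centralizer ({wG N e i} : Set G)) = 18 := by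
  rw [← (rp_facts i).2.2.1, ← Fintype.card_subtype, ← Nat.card_eq_fintype_card]
  refine (Nat.card_eq_of_bijective (fun y : {x : Grp // x * rp i * x⁻¹ = rp i} =>
    (⟨emb N e y.1, Subgroup.mem_centralizer_singleton_iff.2 ?_⟩ : Subgroup.centralizer ({wG N e i} : Set G)))
    ⟨?_, ?_⟩).symm
  · show emb N e y.1 * emb N e (rp i) = emb N e (rp i) * emb N e y.1
    rw [← map_mul, ← map_mul]
    exact congrArg _ (mul_inv_eq_iff_eq_mul.1 y.2)
  · intro y z h
    exact Subtype.ext (emb_injective N e (congrArg Subtype.val h :))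
  · rintro ⟨c, hc⟩
    obtain ⟨y, rfl⟩ := exists_emb N e (hCg _ (wG_mem M N e he i) (wG_ne N e i) hc)
    refine ⟨⟨y, mul_inv_eq_iff_eq_mul.2 (emb_injective N e ?_)⟩, rfl⟩
    rw [map_mul, map_mul]
    exact Subgroup.mem_centralizer_singleton_iff.1 hc

include hN he hCM hCg in
theorem pairs_card {i j l : Fin 2} (hne : ¬ (i = j ∧ j = l)) [DecidableEq G]
    [DecidablePred (IsConj (wG N e i))] [DecidablePred (IsConj (wG N e j))] :
    ((Finset.univ.filter (IsConj (wG N e i)) ×ˢ Finset.univ.filter (IsConj (wG N e j))).filter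
      (fun p => p.1 * p.2 = wG N e l)).card = pairCount i j l := by
  classical
  symm
  refine Finset.card_bij (fun v _ => (emb N e ⟨v, 1⟩, emb N e ((⟨v, 1⟩ : Grp)⁻¹ * rp l))) ?_ ?_ ?_
  · intro v hv
    obtain ⟨h1, h2⟩ := (Finset.mem_filter.1 hv).2
    refine Finset.mem_filter.2 ⟨Finset.mem_product.2 ⟨Finset.mem_filter.2 ⟨Finset.mem_univ _,
      (inCl_iff M N hN e he hCM hCg h1.1).1 h1⟩, Finset.mem_filter.2 ⟨Finset.mem_univ _,
      (inCl_iff M N hN e he hCM hCg h2.1).1 h2⟩⟩, ?_⟩
    rw [← map_mul, mul_inv_cancel_left]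
    rfl
  · intro v _ w _ h
    exact congrArg Grp.v (emb_injective N e (Prod.mk.inj h).1)
  · rintro ⟨x, y⟩ hp
    obtain ⟨hp1, hz⟩ := Finset.mem_filter.1 hp
    obtain ⟨hx, hy⟩ := Finset.mem_product.1 hp1
    replace hx := (Finset.mem_filter.1 hx).2
    replace hy := (Finset.mem_filter.1 hy).2
    simp only at hz hx hy
    have cube : ∀ k, wG N e k ^ 3 = 1 := fun k => by
      rw [wG, ← map_pow, pow_three, ← mul_assoc, (tr_cube _).1 (rp_facts k).1.1, map_one]
    obtain ⟨g1, hg1⟩ := isConj_iff.1 hx
    obtain ⟨g2, hg2⟩ := isConj_iff.1 hy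
    have hx3 : x ^ 3 = 1 := by rw [← hg1, conj_pow, cube]; group
    have hy3 : y ^ 3 = 1 := by rw [← hg2, conj_pow, cube]; group
    have hx1 : x ≠ 1 := fun h => wG_ne N e i (conj_eq_one_iff.1 (hg1.trans h))
    have hy1 : y ≠ 1 := fun h => wG_ne N e j (conj_eq_one_iff.1 (hg2.trans h))
    rcases ThreeNine.conj_or_mem_sylow (comm_all M hCM) (hloc M N hN hCM hCg) hx3 hy3 (by rw [hz, cube]) hx1 hy1
        (by rw [hz]; exact wG_ne N e l) with hall | ⟨P, hxP, hyP⟩
    · exfalso
      have key : ∀ k, (∃ h : G, h * wG N e k * h⁻¹ = x ∨ h * wG N e k * h⁻¹ = x⁻¹) → i = k := by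
        intro k hk
        obtain ⟨h, hh | hh⟩ := hk
        · have : IsConj (wG N e k) (emb N e (rp i)) := (isConj_iff.2 ⟨h, hh⟩).trans hx.symm
          exact inCl_unique i k _ (rp_facts i).1 ((inCl_iff M N hN e he hCM hCg (rp_facts i).1.1).2 this)
        · have h1 : IsConj (wG N e k)⁻¹ x := isConj_iff.2 ⟨h, by rw [← inv_inv x, ← hh]; group⟩
          have : IsConj (wG N e k) (emb N e (rp i)) := ((isConj_wG_inv N e k).trans h1).trans hx.symm
          exact inCl_unique i k _ (rp_facts i).1 ((inCl_iff M N hN e he hCM hCg (rp_facts i).1.1).2 this)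
      have e1 := key l (by rw [← hz]; exact hall _ (Or.inr rfl))
      have e2 : i = j := by
        obtain ⟨h, hh⟩ := hall y (Or.inl rfl)
        refine key j ⟨h * g2, ?_⟩
        rw [← hg2] at hh
        refine hh.imp (fun h' => ?_) (fun h' => ?_) <;> rw [← h'] <;> group
      exact hne ⟨e2, e2.symm.trans e1⟩
    · have hP := sylow_eq M N hN hCM hCg (P := P) (comm_all M hCM P) (wG_mem M N e he l) (wG_ne N e l)
        (by rw [← hz]; exact mul_mem hxP hyP)
      rw [hP] at hxP hyP
      obtain ⟨m, rfl⟩ := exists_emb N e (show x ∈ N from hN ▸ Subgroup.le_normalizer hxP)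
      obtain ⟨m', rfl⟩ := exists_emb N e (show y ∈ N from hN ▸ Subgroup.le_normalizer hyP)
      have hm := (mem_M_iff M N e he m).1 hxP
      have hm' := (mem_M_iff M N e he m').1 hyP
      have hmm : (⟨m.v, 1⟩ : Grp) = m := by cases m; simp only [IsTr] at hm; subst hm; rfl
      have hm2 : m⁻¹ * rp l = m' := by
        apply emb_injective N e
        rw [map_mul, map_inv]
        show _ * wG N e l = _
        rw [← hz, inv_mul_cancel_left]
      refine ⟨m.v, Finset.mem_filter.2 ⟨Finset.mem_univ _, ?_, ?_⟩, ?_⟩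
      · rw [hmm]; exact (inCl_iff M N hN e he hCM hCg hm).2 hx
      · rw [hmm, hm2]; exact (inCl_iff M N hN e he hCM hCg hm').2 hy
      · simp only [hmm, hm2]

/-- induction of a function on the model -/
noncomputable def up (f : Grp → ℂ) : G → ℂ := Cfsg.indFun N (fun h => f (e h))

include e in
theorem card_N : Nat.card N = 72 := by
  rw [Nat.card_congr e.toEquiv, Nat.card_eq_fintype_card, card_grp]

theorem classInner_up (f : Grp → ℂ) {θ : G → ℂ} (hθ : Cfsg.IsClassFunction G θ) :
    Cfsg.classInner (up N e f) θ = (72 : ℂ)⁻¹ * ∑ x : Grp, f x * conj (θ (emb N e x)) := by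
  classical
  rw [up, Char.classInner_indFun N _ _ hθ]
  unfold Cfsg.classInner
  rw [card_N N e]
  congr 1
  exact Fintype.sum_equiv e.toEquiv _ _ fun h => by simp [emb]

theorem isGen_up {f : Grp → ℂ} (hf : Cfsg.IsGeneralizedCharacter Grp f) :
    Cfsg.IsGeneralizedCharacter G (up N e f) :=
  Char.IsGeneralizedCharacter.indFun N (Char.IsGeneralizedCharacter.comp hf e.toMonoidHom)

include hN he hCM hCg in
theorem up_bas {j : ℕ} (hj : j < 4) {x : Grp} (hx : IsTr (x ^ 2) ∧ x ^ 2 ≠ 1) :
    up N e (fun y => (bas j y : ℂ)) (emb N e x) = bas j x := by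
  classical
  rw [up, Char.indFun_apply, ← Finset.sum_subset (s₁ := Finset.univ.filter (· ∈ N)) (Finset.subset_univ _) ?_]
  · rw [Finset.sum_congr rfl (g := fun _ => (bas j x : ℂ)) ?_, Finset.sum_const, nsmul_eq_mul]
    · rw [← Fintype.card_subtype, ← Nat.card_eq_fintype_card, ← mul_assoc, inv_mul_cancel₀, one_mul]
      exact Nat.cast_ne_zero.mpr (Nat.card_pos (α := N)).ne'
    · intro g hg
      obtain ⟨m, rfl⟩ := exists_emb N e (Finset.mem_filter.mp hg).2
      rw [← map_inv, ← map_mul, ← map_mul,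
        show emb N e (m⁻¹ * x * m) = ((e.symm (m⁻¹ * x * m) : N) : G) from rfl, Char.extendByZero_coe]
      simp only [MulEquiv.apply_symm_apply]
      simpa using Char.IsGeneralizedCharacter.isClassFunction (isGen_bas hj) x m⁻¹
  · intro g _ hg
    refine Char.extendByZero_of_notMem N _ fun hm => hg (Finset.mem_filter.2 ⟨Finset.mem_univ _, ?_⟩)
    obtain ⟨y, hy⟩ := exists_emb N e hm
    have hy2 : IsTr (y ^ 2) := by
      rw [tr_cube]
      apply emb_injective N e
      have hx2 : emb N e (x ^ 2) * emb N e (x ^ 2) * emb N e (x ^ 2) = 1 := by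
        rw [← map_mul, ← map_mul, (tr_cube _).1 hx.1, map_one]
      rw [map_mul, map_mul, map_one, map_pow, hy]
      rw [map_pow] at hx2
      calc _ = g⁻¹ * (emb N e x ^ 2 * emb N e x ^ 2 * emb N e x ^ 2) * g := by simp only [pow_two]; group
        _ = 1 := by rw [hx2]; group
    have := ti M N hN hCM hCg (g := g⁻¹) ((mem_M_iff M N e he _).2 hx.1)
      (fun h => hx.2 (emb_injective N e (h.trans (map_one _).symm))) (by
      have h2 : g⁻¹ * emb N e (x ^ 2) * g⁻¹⁻¹ = emb N e (y ^ 2) := by
        rw [map_pow, map_pow, hy]; simp only [pow_two]; group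
      rw [h2]
      exact (mem_M_iff M N e he _).2 hy2)
    simpa using inv_mem this

theorem conj_wG_value (i : Fin 2) (χ : Cfsg.IrrCharacter G) :
    conj ((χ : G → ℂ) (wG N e i)) = (χ : G → ℂ) (wG N e i) := by
  obtain ⟨g, hg⟩ := isConj_iff.1 (isConj_wG_inv N e i)
  rw [← Char.IsIrrCharacter.apply_inv χ.2, ← hg]
  exact Char.IsIrrCharacter.isClassFunction χ.2 _ _

theorem sum_ind (i : Fin 2) (χ : Cfsg.IrrCharacter G) :
    ∑ x : Grp, (if InCl i x then (1 : ℂ) else 0) * conj ((χ : G → ℂ) (emb N e x)) =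
      4 * (χ : G → ℂ) (wG N e i) := by
  classical
  simp only [ite_mul, zero_mul, one_mul]
  rw [← Finset.sum_filter, Finset.sum_congr rfl (g := fun _ => (χ : G → ℂ) (wG N e i)), Finset.sum_const,
    (rp_facts i).2.2.2, nsmul_eq_mul]
  · norm_num
  · intro x hx
    obtain ⟨h, rfl⟩ := (inCl_conj i x).1 (Finset.mem_filter.1 hx).2
    rw [map_mul, map_mul, map_inv, Char.IsIrrCharacter.isClassFunction χ.2 _ _]
    exact conj_wG_value N e i χ

include hN e he hCM hCg in
theorem index_mod : N.index % 9 = 1 := by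
  classical
  haveI := Fact.mk Nat.prime_three
  let _ : Fintype (G ⧸ N) := Fintype.ofFinite _
  have hMN : (M : Subgroup G) ≤ N := hN ▸ Subgroup.le_normalizer
  have key : ∀ m : (M : Subgroup G), m ≠ 1 → Fintype.card (MulAction.fixedBy (G ⧸ N) m) = 1 := by
    intro m hm
    have hfix : MulAction.fixedBy (G ⧸ N) m = {((1 : G) : G ⧸ N)} := by
      ext q
      induction q using QuotientGroup.induction_on with
      | _ x =>
        rw [MulAction.mem_fixedBy, Set.mem_singleton_iff, show m • (x : G ⧸ N) = (((m : G) * x : G) : G ⧸ N) from rfl,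
          QuotientGroup.eq, QuotientGroup.eq]
        constructor
        · intro h
          have h' : x⁻¹ * (m : G) * x ∈ N := by
            have := inv_mem h
            simpa [mul_assoc] using this
          obtain ⟨y, hy⟩ := exists_emb N e h'
          have hm3 : (m : G) * m * m = 1 := by
            obtain ⟨y', hy'⟩ := exists_emb N e (hMN m.2)
            rw [← hy', ← map_mul, ← map_mul, (tr_cube _).1 ((mem_M_iff M N e he y').1 (hy' ▸ m.2)), map_one]
          have hyT : IsTr y := by
            rw [tr_cube]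
            apply emb_injective N e
            rw [map_mul, map_mul, hy, map_one]
            calc _ = x⁻¹ * ((m : G) * m * m) * x := by group
              _ = 1 := by rw [hm3]; group
          have := ti M N hN hCM hCg (g := x⁻¹) m.2 (fun h => hm (Subtype.ext h))
            (by rw [inv_inv, ← hy]; exact (mem_M_iff M N e he y).2 hyT)
          simpa using this
        · intro h
          rw [mul_one] at h
          have : x⁻¹ * (m : G) * x ∈ N := mul_mem (mul_mem h (hMN m.2)) (by simpa using inv_mem h)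
          have := inv_mem this
          simpa [mul_assoc] using this
    simp [hfix]
  have h := MulAction.sum_card_fixedBy_eq_card_orbits_mul_card_group (M : Subgroup G) (G ⧸ N)
  rw [← Finset.add_sum_erase _ _ (Finset.mem_univ (1 : (M : Subgroup G))),
    Finset.sum_congr rfl (g := fun _ => 1) fun m hm => key m (Finset.ne_of_mem_erase hm), Finset.sum_const,
    Finset.card_erase_of_mem (Finset.mem_univ _), Finset.card_univ, smul_eq_mul, mul_one] at h
  have hM9 : Fintype.card (M : Subgroup G) = 9 := by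
    rw [← Nat.card_eq_fintype_card, ← Nat.card_congr (Subgroup.subgroupOfEquivOfLe hMN).toEquiv]
    rw [Nat.card_congr (Equiv.subtypeEquiv e.toEquiv (p := fun x : N => x ∈ (M : Subgroup G).subgroupOf N)
      (q := IsTr) fun x => he x), Nat.card_eq_fintype_card, Fintype.card_subtype]
    decide +kernel
  have h1 : Fintype.card (MulAction.fixedBy (G ⧸ N) (1 : (M : Subgroup G))) = N.index := by
    rw [← Nat.card_eq_fintype_card, Subgroup.index_eq_card]
    exact Nat.card_congr ((Equiv.setCongr (by ext; simp)).trans (Equiv.Set.univ _))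
  rw [hM9, h1] at h
  omega

include hN e he hCM hCg in
theorem not_simple : ¬ IsSimpleGroup G := by
  classical
  intro hsimp
  haveI := Fact.mk Nat.prime_three
  set n := N.index with hn
  have hn0 : 0 < n := Nat.pos_of_ne_zero Subgroup.index_ne_zero_of_finite
  have hG : Nat.card G = 72 * n := by rw [← N.card_mul_index, card_N N e]
  have hn9 := index_mod M N hN e he hCM hCg
  have hn1 : 1 < n := by
    by_contra h
    have hNtop : N = ⊤ := Subgroup.index_eq_one.1 (show n = 1 by omega)
    have hnorm : (M : Subgroup G).Normal := Subgroup.normalizer_eq_top_iff.1 (hN.symm.trans hNtop)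
    rcases hsimp.eq_bot_or_eq_top_of_normal _ hnorm with h' | h'
    · exact wG_ne N e 0 (Subgroup.mem_bot.1 (h' ▸ wG_mem M N e he 0))
    · have : IsTr (⟨0, .r 1⟩ : Grp) := (mem_M_iff M N e he _).1 (h'.symm ▸ Subgroup.mem_top _)
      exact absurd this (by decide)
  have hnc : ¬ IsMulCommutative G := by
    intro hc
    have hNtop : N = ⊤ := by
      rw [hN, Subgroup.normalizer_eq_top_iff]
      exact ⟨fun m hm g => by rwa [hc.is_comm.comm g m, mul_inv_cancel_right]⟩
    have : n = 1 := Subgroup.index_eq_one.2 hNtop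
    omega
  set P : Cfsg.IrrCharacter G := Char.principalIrr with hP
  have hPone : (P : G → ℂ) = fun _ => 1 := rfl
  choose dg hdg0 hdg using fun χ : Cfsg.IrrCharacter G => Char.IsIrrCharacter.exists_degree χ.2
  have hfaith : ∀ χ : Cfsg.IrrCharacter G, χ ≠ P → ∀ g : G, (χ : G → ℂ) g = (χ : G → ℂ) 1 → g = 1 := by
    intro χ hne
    obtain ⟨m, ρ, hirr, hρ⟩ := χ.2
    rcases hsimp.eq_bot_or_eq_top_of_normal _ (MonoidHom.normal_ker ρ) with hk | hk
    · intro g hg
      rw [← Subgroup.mem_bot, ← hk, MonoidHom.mem_ker]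
      rw [← hρ, Representation.char_one] at hg
      exact (Char.character_eq_degree_iff ρ g).1 hg
    · exfalso
      have hconst : ∀ g, (χ : G → ℂ) g = (χ : G → ℂ) 1 := fun g => by
        have : ρ g = ρ 1 := by rw [map_one]; exact MonoidHom.mem_ker.1 (hk ▸ Subgroup.mem_top g)
        rw [← hρ]; simp only [Representation.character, this]
      have h0 := Char.classInner_irr_of_ne χ.2 P.2 (fun h => hne (Subtype.ext h))
      rw [hPone] at h0
      unfold Cfsg.classInner at h0
      simp only [hconst, map_one, mul_one, Finset.sum_const, Finset.card_univ, nsmul_eq_mul] at h0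
      exact Char.IsIrrCharacter.apply_one_ne_zero χ.2 (by
        simpa [Nat.card_eq_fintype_card, Fintype.card_ne_zero] using h0)
  have hd2 : ∀ χ : Cfsg.IrrCharacter G, χ ≠ P → 2 ≤ dg χ := by
    intro χ hne
    by_contra h
    have h1 : (χ : G → ℂ) 1 = 1 := by
      have := hdg0 χ
      rw [hdg χ, show dg χ = 1 by omega, Nat.cast_one]
    obtain ⟨f, hf⟩ := Char.IsCharacter.exists_linear (Char.IsIrrCharacter.isCharacter χ.2) h1
    refine hnc ⟨⟨fun a b => ?_⟩⟩
    have : a * b * (b * a)⁻¹ = 1 := hfaith χ hne _ (by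
      rw [h1, hf, map_mul, map_inv, map_mul, map_mul, mul_comm (f b), mul_inv_cancel, Units.val_one])
    exact mul_inv_eq_one.1 this
  choose z hz using fun (j : ℕ) (χ : Cfsg.IrrCharacter G) =>
    show ∃ t : ℤ, j < 4 → Cfsg.classInner (up N e fun x => (bas j x : ℂ)) χ = t from
      if h : j < 4 then (CharExc.exists_int_classInner (isGen_up N e (isGen_bas h)) χ.2).imp fun _ ht _ => ht
      else ⟨0, fun h' => absurd h' h⟩
  have hgen : ∀ {j}, j < 4 → Cfsg.IsClassFunction G (up N e fun x => (bas j x : ℂ)) := fun h =>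
    Char.IsGeneralizedCharacter.isClassFunction (isGen_up N e (isGen_bas h))
  have hzP : ∀ j < 4, z j P = triv j := by
    intro j hj
    have h := hz j P hj
    rw [classInner_up N e _ (Char.IsIrrCharacter.isClassFunction P.2), hPone] at h
    simp only [map_one, mul_one] at h
    rw [← Int.cast_sum, triv_check j hj] at h
    push_cast at h
    rw [← mul_assoc, inv_mul_cancel₀ (by norm_num), one_mul] at h
    exact_mod_cast h.symm
  have hgram : ∀ i < 4, ∀ j ≤ i, ∑ χ, z i χ * z j χ = gram i j := by
    intro i hi j hji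
    have hj : j < 4 := lt_of_le_of_lt hji hi
    have h1 : Cfsg.classInner (up N e fun x => (bas i x : ℂ)) (up N e fun x => (bas j x : ℂ)) = (gram i j : ℂ) := by
      rw [classInner_up N e _ (hgen hj)]
      have : ∑ x : Grp, (bas i x : ℂ) * conj (up N e (fun y => (bas j y : ℂ)) (emb N e x)) =
          ((∑ x : Grp, bas i x * bas j x : ℤ) : ℂ) := by
        push_cast
        refine Finset.sum_congr rfl fun x _ => ?_
        rcases supp x with h | h
        · rw [h i hi, Int.cast_zero, zero_mul, zero_mul]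
        · rw [up_bas M N hN e he hCM hCg hj h, map_intCast]
      rw [this, gram_check i hi j hj]
      push_cast
      ring
    rw [Char.classInner_eq_sum (hgen hi) (hgen hj)] at h1
    simp only [hz i _ hi, hz j _ hj, map_intCast] at h1
    exact_mod_cast h1
  have hdeg : ∀ j < 4, ∑ χ, z j χ * (dg χ : ℤ) = 0 := by
    intro j hj
    have h1 := congrFun (Char.IsClassFunction.eq_sum_classInner (hgen hj)) 1
    have h0 : up N e (fun x => (bas j x : ℂ)) 1 = 0 := by
      rw [up, Char.indFun_apply_one, map_one, bas_one j hj, Int.cast_zero, mul_zero]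
    rw [h0] at h1
    simp only [Finset.sum_apply, Pi.smul_apply, smul_eq_mul, hz j _ hj, hdg] at h1
    exact_mod_cast h1.symm
  have hfv : ∀ i (χ : Cfsg.IrrCharacter G), (χ : G → ℂ) (wG N e i) = (fval z i χ : ℂ) := by
    intro i χ
    have h1 : ∀ j : ℕ, j < 4 → (z j χ : ℂ) = (72 : ℂ)⁻¹ * ∑ x : Grp, (bas j x : ℂ) * conj ((χ : G → ℂ) (emb N e x)) :=
      fun j hj => by rw [← classInner_up N e _ (Char.IsIrrCharacter.isClassFunction χ.2), hz j χ hj]
    have h2 : ∑ x : Grp, (if InCl i x then (18 : ℂ) else 0) * conj ((χ : G → ℂ) (emb N e x)) =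
        72 * (χ : G → ℂ) (wG N e i) := by
      rw [show (72 : ℂ) * (χ : G → ℂ) (wG N e i) = 18 * (4 * (χ : G → ℂ) (wG N e i)) by ring, ← sum_ind N e i χ,
        Finset.mul_sum]
      refine Finset.sum_congr rfl fun x _ => ?_
      split_ifs <;> ring
    have h3 : ∀ x : Grp, (if InCl i x then (18 : ℂ) else 0) =
        ∑ j ∈ Finset.range 4, ((phiC i).getD j 0 : ℂ) * (bas j x : ℂ) := by
      intro x
      have h := congrArg (Int.cast : ℤ → ℂ) (phi_check i x)
      push_cast at h
      simp only [Finset.sum_range_succ, Finset.sum_range_zero, zero_add]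
      rw [h]
    simp only [h3, Finset.sum_mul] at h2
    rw [Finset.sum_comm] at h2
    simp only [mul_assoc, ← Finset.mul_sum, Finset.sum_range_succ, Finset.sum_range_zero, zero_add] at h2
    simp only [fval, List.range_succ, List.range_zero, List.nil_append, List.cons_append, List.map_cons, List.map_nil,
      List.sum_cons, List.sum_nil]
    push_cast
    rw [h1 0 (by norm_num), h1 1 (by norm_num), h1 2 (by norm_num), h1 3 (by norm_num)]
    linear_combination (-1 / 72 : ℂ) * h2
  have hfP : ∀ i, fval z i P = 1 := by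
    intro i
    have := hfv i P
    rw [hPone] at this
    beta_reduce at this
    exact_mod_cast this.symm
  have hdP : dg P = 1 := by
    have := hdg P
    rw [hPone] at this
    beta_reduce at this
    exact_mod_cast this.symm
  have hsize' : ∀ k : Fin 2, ((Finset.univ.filter (IsConj (wG N e k))).card : ℂ) = 4 * (n : ℂ) := by
    intro k
    have h1 := Char.card_isConj_mul_card_centralizer (wG N e k)
    rw [card_centralizer M N hN e he hCM hCg k, Nat.card_eq_fintype_card (α := {x : G // IsConj (wG N e k) x}),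
      Fintype.card_subtype, hG] at h1
    have : (Finset.univ.filter (IsConj (wG N e k))).card = 4 * n := by linarith
    rw [this]; push_cast; rfl
  have hmom : ∀ j : Fin 2, ∑ χ, ((fval z 0 χ * fval z j χ * fval z 1 χ : ℤ) : ℚ) / (dg χ : ℚ) = 9 / n := by
    intro j
    have hne : ¬ ((0 : Fin 2) = j ∧ j = 1) := by rintro ⟨rfl, h⟩; exact absurd h (by decide)
    have hp : pairCount 0 j 1 = 2 := by fin_cases j; exacts [pairCount_eq.1, pairCount_eq.2]
    have h := CharDeep.ClassSum.card_pairs (wG N e 0) (wG N e j) (wG N e 1)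
    rw [pairs_card M N hN e he hCM hCg hne, hp] at h
    simp only [conj_wG_value, hfv, hdg, hG, map_intCast, hsize'] at h
    have hn' : (n : ℂ) ≠ 0 := Nat.cast_ne_zero.2 hn0.ne'
    have key : ∑ χ, ((fval z 0 χ * fval z j χ * fval z 1 χ : ℤ) : ℂ) / (dg χ : ℂ) = 9 / (n : ℂ) := by
      push_cast at h ⊢
      rw [eq_div_iff hn']
      field_simp at h
      linear_combination (-1 / 16 : ℂ) * h
    have key2 : ((∑ χ, ((fval z 0 χ * fval z j χ * fval z 1 χ : ℤ) : ℚ) / (dg χ : ℚ) : ℚ) : ℂ) =
        ((9 / n : ℚ) : ℂ) := by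
      push_cast at key ⊢
      exact key
    exact_mod_cast key2
  have hcong : ∀ χ, (9 : ℤ) ∣ dg χ + 4 * (fval z 0 χ + fval z 1 χ) := by
    intro χ
    obtain ⟨t, ht⟩ := CharExc.exists_int_classInner (isGen_up N e isGen_reg) χ.2
    refine ⟨t, ?_⟩
    rw [classInner_up N e _ (Char.IsIrrCharacter.isClassFunction χ.2)] at ht
    have h2 : ∑ x : Grp, (reg x : ℂ) * conj ((χ : G → ℂ) (emb N e x)) =
        8 * ((dg χ : ℂ) + 4 * (χ : G → ℂ) (wG N e 0) + 4 * (χ : G → ℂ) (wG N e 1)) := by
      rw [← sum_ind N e 0 χ, ← sum_ind N e 1 χ]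
      simp only [tr_split]
      push_cast
      simp only [mul_assoc, add_mul, ← Finset.mul_sum, Finset.sum_add_distrib]
      congr 2
      congr 1
      · simp only [ite_mul, one_mul, zero_mul]
        rw [Finset.sum_ite_eq' Finset.univ 1 fun x => conj ((χ : G → ℂ) (emb N e x))]
        simp [hdg]
    rw [h2, hfv, hfv] at ht
    have : ((dg χ : ℤ) : ℂ) + 4 * ((fval z 0 χ : ℂ) + (fval z 1 χ : ℂ)) = 9 * (t : ℂ) := by
      push_cast
      linear_combination 9 * ht
    exact_mod_cast this
  have hsize : ∑ χ : Cfsg.IrrCharacter G, dg χ * dg χ = 72 * n := by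
    have h := Char.sum_mul_conj (1 : G) 1
    rw [if_pos (IsConj.refl 1)] at h
    simp only [hdg, map_natCast] at h
    have hc : Nat.card (Subgroup.centralizer ({1} : Set G)) = Nat.card G := by
      rw [Subgroup.centralizer_eq_top_iff_subset.2 (by simp), Subgroup.card_top]
    rw [hc, hG] at h
    exact_mod_cast h
  have hsub : ∀ {R : Type} [AddCommMonoid R] (F : Cfsg.IrrCharacter G → R),
      ∑ χ, F χ = F P + ∑ χ : {χ : Cfsg.IrrCharacter G // χ ≠ P}, F χ := by
    intro R _ F
    rw [← Finset.sum_subtype (Finset.univ.erase P) (fun χ => by simp) F, Finset.add_sum_erase _ _ (Finset.mem_univ P)]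
  let a : ℕ → {χ : Cfsg.IrrCharacter G // χ ≠ P} → ℤ := fun j χ => if j < 4 then z j χ.1 else 0
  have ha : ∀ j < 4, ∀ χ, a j χ = z j χ.1 := fun j hj χ => if_pos hj
  have haf : ∀ i χ, fval a i χ = fval z i χ.1 := fun i χ => by
    refine congrArg List.sum (List.map_congr_left fun k hk => ?_)
    rw [ha k (List.mem_range.1 hk)]
  rcases dichotomy (a := a) hn9 hn1 (fun j hj χ => if_neg (by omega)) (fun χ => dg χ.1) (fun χ => hd2 _ χ.2)
    (fun i hi j hji => by
      have := hgram i hi j hji
      rw [hsub, hzP i hi, hzP j (lt_of_le_of_lt hji hi)] at this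
      simp only [gram', ha i hi, ha j (lt_of_le_of_lt hji hi)]
      linear_combination this)
    (fun j hj => by
      have := hdeg j hj
      rw [hsub, hzP j hj, hdP] at this
      simp only [ha j hj]
      linear_combination this)
    (fun j => by
      have := hmom j
      rw [hsub, hfP, hfP, hfP, hdP] at this
      rw [← this]
      simp only [haf, Int.cast_one, one_mul, Nat.cast_one, div_one]
      rw [add_comm])
    (fun χ => by simp only [haf]; exact hcong χ.1)
    (by rw [← hsize, hsub (fun χ => dg χ * dg χ)]; exact Nat.le_add_left _ _)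
    with h10 | ⟨χ, p, hp, hpd, hlt, huniq⟩
  · have := SmallOrder.card_mem_of_rangeExcluded hnc (a := 720) (len := 1) (exc := []) (by decide +kernel)
      (by omega) (by omega)
    simp at this
  · haveI := Fact.mk hp
    rw [← hG] at hpd
    have hfix : ∀ k : ℕ, k.Coprime (Nat.card G) → ∀ g : G, (χ.1 : G → ℂ) (g ^ k) = (χ.1 : G → ℂ) g := by
      intro k hk
      have hk72 : k.Coprime (Nat.card Grp) := by
        rw [Nat.card_eq_fintype_card, card_grp]
        exact Nat.Coprime.coprime_dvd_right (Dvd.intro _ hG.symm) hk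
      have hz' : ∀ j < 4, z j (CharGalois.powIrr hk χ.1) = z j χ.1 := by
        intro j hj
        have h : ((z j (CharGalois.powIrr hk χ.1) : ℤ) : ℂ) = z j χ.1 := by
          rw [← hz j _ hj, ← hz j _ hj, classInner_up N e _ (Char.IsIrrCharacter.isClassFunction χ.1.2),
            classInner_up N e _ (Char.IsIrrCharacter.isClassFunction (CharGalois.powIrr hk χ.1).2)]
          congr 1
          refine Fintype.sum_equiv (powCoprime hk72.symm) _ _ fun x => ?_
          rw [CharGalois.powIrr_apply, ← map_pow, powCoprime_apply]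
          congr 2
          have hmod : x ^ k = x ^ (k % 12) := pow_eq_pow_mod k (pow_twelve x)
          rw [hmod, bas_pow (k % 12) (Nat.mod_lt _ (by norm_num)) ?_ j hj x]
          rw [Nat.Coprime, ← Nat.gcd_rec, Nat.gcd_comm]
          exact Nat.Coprime.coprime_dvd_right (show 12 ∣ Nat.card Grp by
            rw [Nat.card_eq_fintype_card, card_grp]; norm_num) hk72
        exact_mod_cast h
      have hne : CharGalois.powIrr hk χ.1 ≠ P := by
        intro h
        refine χ.2 ((CharGalois.powIrr_bijective hk).1 (h.trans ?_))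
        exact Subtype.ext (funext fun g => by rw [CharGalois.powIrr_apply, hPone])
      have heq := huniq ⟨_, hne⟩ fun j hj => by rw [ha j hj, ha j hj]; exact hz' j hj
      intro g
      rw [← CharGalois.powIrr_apply hk, show CharGalois.powIrr hk χ.1 = χ.1 from congrArg Subtype.val heq]
    have hrat : ∀ g : G, ∃ q : ℚ, (χ.1 : G → ℂ) g = (q : ℂ) := by
      intro g
      rw [CharPower.exists_rat_iff (Char.IsIrrCharacter.isCharacter χ.1.2) g (orderOf_pos g) (pow_orderOf_eq_one g)]
      intro m hm
      obtain ⟨k, hk, hkm⟩ := TwoP.exists_coprime_lift (orderOf_dvd_natCard g) Nat.card_pos.ne' hm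
      rw [pow_eq_pow_iff_modEq.2 hkm.symm]
      exact hfix k hk g
    have hb := Char.schur_bound (p := p) (Char.IsIrrCharacter.isCharacter χ.1.2) (hfaith χ.1 χ.2) (r := 1) one_pos
      (by simpa using hp.one_lt.ne') (fun g => by
        obtain ⟨q, hq⟩ := hrat g
        rw [hq]
        exact IntermediateField.algebraMap_mem _ q) (hdg χ.1)
    have hpos := hp.factorization_pos_of_dvd Nat.card_pos.ne' hpd
    have hzero : ∑ i ∈ Finset.range (dg χ.1 + 1), dg χ.1 / ((p - 1) * p ^ i) = 0 := by
      refine Finset.sum_eq_zero fun i _ => Nat.div_eq_of_lt ?_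
      calc dg χ.1 < (p - 1) * 1 := by omega
        _ ≤ (p - 1) * p ^ i := Nat.mul_le_mul_left _ (Nat.one_le_pow _ _ hp.pos)
    omega

end Main

end CfsgLib.WreathNine
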