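import Cfsg.Agent.Lib.WreathNine.Model
import Mathlib.GroupTheory.Sylow
import Mathlib.Algebra.Group.Subgroup.Pointwise
import Mathlib.GroupTheory.GroupAction.ConjAct
import Mathlib.Tactic

/-!
The normalizer of a self-centralizing elementary abelian Sylow subgroup of order nine with dihedral
Sylow `2`-subgroup is `3²:D₈`.
-/

set_option autoImplicit false
set_option maxRecDepth 100000

namespace CfsgLib.WreathNine

open Subgroup
open scoped Pointwise

variable {G : Type*} [Group G]

/-- conjugation as a map of the subgroup -/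
def IsInv (g m : G) : Prop := g * m * g⁻¹ = m⁻¹

theorem conj_conj (g h m : G) : g * (h * m * h⁻¹) * g⁻¹ = (g * h) * m * (g * h)⁻¹ := by group

theorem pow_fin {a : G} (ha : a ^ 3 = 1) (p q : Fin 3) : a ^ (p + q).val = a ^ p.val * a ^ q.val := by
  rw [← pow_add, Fin.val_add, ← pow_eq_pow_mod _ ha]

/-- the translations of a frame -/
def frame (a b : G) (v : Vec) : G := a ^ v.1.val * b ^ v.2.val

theorem frame_add {a b : G} (ha : a ^ 3 = 1) (hb : b ^ 3 = 1) (hab : Commute a b) (v w : Vec) :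
    frame a b (v + w) = frame a b v * frame a b w := by
  simp only [frame, Prod.fst_add, Prod.snd_add, pow_fin ha, pow_fin hb]
  rw [mul_assoc, mul_assoc, ← mul_assoc (a ^ w.1.val) (b ^ v.2.val), (hab.pow_pow _ _).eq, mul_assoc]

theorem dih_pow8 : ∀ σ : DihEight, σ ^ 8 = 1 := by decide +kernel

theorem act_split : ∀ (σ : DihEight) (v : Vec),
    act σ v = v.1.val • act σ (1, 0) + v.2.val • act σ (0, 1) := by decide +kernel

theorem act_one : ∀ v : Vec, act 1 v = v := by decide

theorem frame_split : ∀ v : Vec, v = v.1.val • ((1, 0) : Vec) + v.2.val • ((0, 1) : Vec) := by decide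

variable [Finite G] (M : Sylow 3 G) (hM9 : Nat.card ↥(M : Subgroup G) = 9)
  (hMel : ∀ m ∈ (M : Subgroup G), m ^ 3 = 1)
  (hCM : centralizer ((M : Subgroup G) : Set G) = (M : Subgroup G))

include hCM in
theorem sylow_comm {a b : G} (ha : a ∈ (M : Subgroup G)) (hb : b ∈ (M : Subgroup G)) : Commute a b := by
  have : b ∈ centralizer ((M : Subgroup G) : Set G) := by rw [hCM]; exact hb
  exact mem_centralizer_iff.1 this a ha

include hM9 hMel hCM in
/-- The frame of the action of a dihedral group acting faithfully. -/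
theorem exists_frame (i : DihEight →* G) (hi : Function.Injective i)
    (hN : ∀ σ, i σ ∈ normalizer ((M : Subgroup G) : Set G)) :
    ∃ a b : G, a ∈ (M : Subgroup G) ∧ b ∈ (M : Subgroup G) ∧
      (∀ σ v, i σ * frame a b v * (i σ)⁻¹ = frame a b (act σ v)) ∧ Function.Injective (frame a b) := by
  have hc : ∀ {p q : G}, p ∈ (M : Subgroup G) → q ∈ (M : Subgroup G) → Commute p q := sylow_comm M hCM
  have hconj : ∀ σ, ∀ {m : G}, m ∈ (M : Subgroup G) → i σ * m * (i σ)⁻¹ ∈ (M : Subgroup G) := fun σ _ hm =>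
    (mem_normalizer_iff.1 (hN σ) _).1 hm
  have hfaith : ∀ σ, (∀ m ∈ (M : Subgroup G), i σ * m * (i σ)⁻¹ = m) → σ = 1 := by
    intro σ h
    have hm : i σ ∈ (M : Subgroup G) := by
      rw [← hCM, mem_centralizer_iff]
      intro m hm
      exact (mul_inv_eq_iff_eq_mul.1 (h m hm)).symm
    have h8 : σ ^ 8 = 1 := dih_pow8 σ
    refine hi (?_ : i σ = i 1)
    rw [map_one]
    exact (pow_eq_one_iff_of_coprime (show Nat.Coprime 3 8 by norm_num)).1
      ⟨hMel _ hm, by rw [← map_pow, h8, map_one]⟩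
  have inv3 : ∀ {m : G}, m ∈ (M : Subgroup G) → m⁻¹ = m * m := fun {m} hm =>
    inv_eq_of_mul_eq_one_right (by rw [← mul_assoc, ← pow_three']; exact hMel m hm)
  have sq1 : ∀ {m : G}, m ∈ (M : Subgroup G) → m * m = 1 → m = 1 := fun {m} hm h => by
    rw [← inv_inv m, inv3 hm, h, inv_one]
  have gen2 : ∀ f h : G, f ∈ (M : Subgroup G) → h ∈ (M : Subgroup G) → f ≠ 1 → h ∉ zpowers f →
      ∀ {m : G}, m ∈ (M : Subgroup G) → m ∈ zpowers f ⊔ zpowers h := by
    intro f h hf hh hf1 hhf
    have hle : zpowers f ⊔ zpowers h ≤ (M : Subgroup G) := sup_le (zpowers_le.2 hf) (zpowers_le.2 hh)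
    have h3 : Nat.card (zpowers f) = 3 := by
      rw [Nat.card_zpowers]; exact orderOf_eq_prime (hMel f hf) hf1
    have hlt : zpowers f < zpowers f ⊔ zpowers h := lt_of_le_of_ne le_sup_left fun e =>
      hhf (e ▸ mem_sup_right (mem_zpowers h))
    have hd := Subgroup.card_dvd_of_le hle
    rw [hM9] at hd
    have hd3 := Subgroup.card_dvd_of_le hlt.le
    rw [h3] at hd3
    have hne : Nat.card ↥(zpowers f ⊔ zpowers h) ≠ 3 := fun e =>
      hlt.ne (Subgroup.eq_of_le_of_card_ge hlt.le (by rw [e, h3]))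
    obtain ⟨k, hk, hk'⟩ := (Nat.dvd_prime_pow Nat.prime_three).1 (show _ ∣ 3 ^ 2 from hd)
    have h9 : Nat.card ↥(zpowers f ⊔ zpowers h) = 9 := by
      rw [hk'] at hne hd3 ⊢
      interval_cases k <;> simp_all
    have := Subgroup.eq_of_le_of_card_ge hle (by rw [h9, hM9])
    intro m hm
    rw [this]; exact hm
  set ρ := i (.r 1) with hρ
  set z := i (.r 2) with hz
  set s := i (.sr 0) with hs
  have hz2 : z * z = 1 := by rw [hz, ← map_mul, ← map_one i]; congr 1
  have hρρ : ρ * ρ = z := by rw [hρ, hz, ← map_mul]; congr 1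
  have hzinv : ∀ {m : G}, m ∈ (M : Subgroup G) → z * m * z⁻¹ = m⁻¹ := by
    intro m hm
    by_contra hne
    set f := m * (z * m * z⁻¹) with hf
    have hfM : f ∈ (M : Subgroup G) := mul_mem hm (hconj _ hm)
    have hf1 : f ≠ 1 := fun e => hne (eq_inv_of_mul_eq_one_right e)
    have hzf : z * f * z⁻¹ = f := by
      calc z * f * z⁻¹ = (z * m * z⁻¹) * ((z * z) * m * (z * z)⁻¹) := by rw [hf]; group
        _ = f := by rw [hz2, inv_one, one_mul, mul_one]; exact (hc (hconj _ hm) hm).eq
    obtain ⟨k, hk, hzk⟩ : ∃ k ∈ (M : Subgroup G), z * k * z⁻¹ ≠ k := by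
      by_contra h
      push Not at h
      exact absurd (hfaith _ h) (by decide)
    set h := k * (z * k * z⁻¹)⁻¹ with hh
    have hhM : h ∈ (M : Subgroup G) := mul_mem hk (inv_mem (hconj _ hk))
    have hh1 : h ≠ 1 := fun e => hzk (mul_inv_eq_one.1 e).symm
    have hzh : z * h * z⁻¹ = h⁻¹ := by
      calc z * h * z⁻¹ = (z * k * z⁻¹) * ((z * z) * k * (z * z)⁻¹)⁻¹ := by rw [hh]; group
        _ = h⁻¹ := by rw [hz2, hh]; group
    have hhf : h ∉ zpowers f := by
      intro hm'
      obtain ⟨j, hj⟩ := mem_zpowers_iff.1 hm'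
      have e1 : z * h * z⁻¹ = h := by rw [← hj, ← conj_zpow, hzf]
      exact hh1 (sq1 hhM (eq_inv_iff_mul_eq_one.1 (e1.symm.trans hzh)))
    have hfh : f ∉ zpowers h := by
      intro hm'
      obtain ⟨j, hj⟩ := mem_zpowers_iff.1 hm'
      have e1 : z * f * z⁻¹ = f⁻¹ := by rw [← hj, ← conj_zpow, hzh, inv_zpow]
      exact hf1 (sq1 hfM (eq_inv_iff_mul_eq_one.1 (hzf.symm.trans e1)))
    -- the rotation respects both eigenspaces
    have hcz : ρ * z = z * ρ := by rw [← hρρ, mul_assoc]
    have heig : ∀ {p q : G}, p ∈ (M : Subgroup G) → q ∈ (M : Subgroup G) → p ≠ 1 → q ≠ 1 → q ∉ zpowers p →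
        p ∉ zpowers q → ∀ ε : Bool, z * p * z⁻¹ = (if ε then p else p⁻¹) → z * q * z⁻¹ = (if ε then q⁻¹ else q) →
        z * p * z⁻¹ = p := by
      intro p q hp hq hp1 hq1 hqp hpq ε hzp hzq
      have e1 : z * (ρ * p * ρ⁻¹) * z⁻¹ = (if ε then ρ * p * ρ⁻¹ else (ρ * p * ρ⁻¹)⁻¹) := by
        calc z * (ρ * p * ρ⁻¹) * z⁻¹ = (z * ρ) * p * (z * ρ)⁻¹ := by group
          _ = ρ * (z * p * z⁻¹) * ρ⁻¹ := by rw [← hcz]; group
          _ = _ := by rw [hzp]; cases ε <;> simp [mul_assoc]
      have hle : zpowers p ≤ normalizer (zpowers q : Set G) := zpowers_le.2 (mem_normalizer_iff.2 fun x => by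
        constructor
        · intro hx
          obtain ⟨j, rfl⟩ := mem_zpowers_iff.1 hx
          rw [((hc hp hq).zpow_right j).eq, mul_inv_cancel_right]
          exact zpow_mem (mem_zpowers q) j
        · intro hx
          obtain ⟨j, hj⟩ := mem_zpowers_iff.1 hx
          have : x = q ^ j := by
            calc x = p⁻¹ * (p * x * p⁻¹) * p := by group
              _ = p⁻¹ * q ^ j * p := by rw [hj]
              _ = q ^ j := by rw [mul_assoc, ← ((hc hp hq).zpow_right j).eq]; group
          rw [this]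
          exact zpow_mem (mem_zpowers q) j)
      have hmul : ρ * p * ρ⁻¹ ∈ ((zpowers p : Set G) * (zpowers q : Set G)) := by
        rw [← coe_mul_of_left_le_normalizer_right _ _ hle]
        exact gen2 p q hp hq hp1 hqp (hconj (.r 1) hp)
      obtain ⟨a, ha, b, hb, hab⟩ := Set.mem_mul.1 hmul
      obtain ⟨ja, rfl⟩ := mem_zpowers_iff.1 ha
      obtain ⟨jb, rfl⟩ := mem_zpowers_iff.1 hb
      have hqj : q ^ jb = 1 := by
        have hpm : p ^ ja ∈ (M : Subgroup G) := zpow_mem hp ja
        have hqm : q ^ jb ∈ (M : Subgroup G) := zpow_mem hq jb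
        skip
        rw [← hab] at e1
        have e2 : z * (p ^ ja * q ^ jb) * z⁻¹ = (z * p * z⁻¹) ^ ja * (z * q * z⁻¹) ^ jb := by
          rw [conj_zpow, conj_zpow]; group
        rw [e2, hzp, hzq] at e1
        cases ε <;> simp only [Bool.false_eq_true, if_false, if_true, inv_zpow] at e1
        · rw [(hc hpm hqm).mul_inv] at e1
          exact sq1 hqm (eq_inv_iff_mul_eq_one.1 (mul_left_cancel e1))
        · exact sq1 hqm (eq_inv_iff_mul_eq_one.1 (mul_left_cancel e1).symm)
      rw [hqj, mul_one] at hab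
      have hpj : ρ * p * ρ⁻¹ = p ^ ja := hab.symm
      have h2 : z * p * z⁻¹ = p ^ (ja * ja) := by
        calc z * p * z⁻¹ = ρ * (ρ * p * ρ⁻¹) * ρ⁻¹ := by rw [← hρρ]; group
          _ = _ := by rw [hpj, ← conj_zpow, hpj, ← zpow_mul]
      have hp3 : p ^ (3 : ℤ) = 1 := by exact_mod_cast hMel p hp
      rw [h2]
      rw [← Int.emod_add_mul_ediv ja 3] at hpj ⊢
      have hr := Int.emod_lt_of_pos ja (show (0 : ℤ) < 3 by norm_num)
      have hr0 := Int.emod_nonneg ja (show (3 : ℤ) ≠ 0 by norm_num)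
      interval_cases hj : ja % 3
      · exfalso
        refine hp1 (conj_eq_one_iff.1 (hpj.trans ?_))
        rw [zero_add, zpow_mul, hp3, one_zpow]
      · rw [show (1 + 3 * (ja / 3)) * (1 + 3 * (ja / 3)) = 1 + 3 * ((2 + 3 * (ja / 3)) * (ja / 3)) by ring,
          zpow_add, zpow_mul, hp3, one_zpow, mul_one, zpow_one]
      · rw [show (2 + 3 * (ja / 3)) * (2 + 3 * (ja / 3)) = 1 + 3 * (1 + (4 + 3 * (ja / 3)) * (ja / 3)) by ring,
          zpow_add, zpow_mul, hp3, one_zpow, mul_one, zpow_one]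
    have := heig hhM hfM hh1 hf1 hfh hhf false hzh (by simpa using hzf)
    exact hh1 (sq1 hhM (eq_inv_iff_mul_eq_one.1 (this.symm.trans hzh)))
  obtain ⟨m, hm, hsm⟩ : ∃ m ∈ (M : Subgroup G), s * m * s⁻¹ ≠ m⁻¹ := by
    by_contra h
    push Not at h
    refine absurd (hfaith (.sr 2) fun m hm => ?_) (by decide)
    have e1 : i (.sr 2) = s * z := by rw [hs, hz, ← map_mul]; congr 1
    rw [e1, ← conj_conj, hzinv hm, h _ (inv_mem hm), inv_inv]
  set a := m * (s * m * s⁻¹) with ha
  have haM : a ∈ (M : Subgroup G) := mul_mem hm (hconj _ hm)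
  have ha1 : a ≠ 1 := fun e => hsm (eq_inv_of_mul_eq_one_right e)
  have hs2 : s * s = 1 := by rw [hs, ← map_mul, ← map_one i]; congr 1
  have hsa : s * a * s⁻¹ = a := by
    calc s * a * s⁻¹ = (s * m * s⁻¹) * ((s * s) * m * (s * s)⁻¹) := by rw [ha]; group
      _ = a := by rw [hs2, inv_one, one_mul, mul_one]; exact (hc (hconj _ hm) hm).eq
  set b := ρ * a * ρ⁻¹ with hb
  have hbM : b ∈ (M : Subgroup G) := hconj _ haM
  have hρb : ρ * b * ρ⁻¹ = a⁻¹ := by rw [hb, conj_conj, hρρ, hzinv haM]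
  have hsb : s * b * s⁻¹ = b⁻¹ := by
    have e1 : s * ρ = ρ * z * s := by rw [hs, hρ, hz, ← map_mul, ← map_mul, ← map_mul]; congr 1
    calc s * b * s⁻¹ = (s * ρ) * a * (s * ρ)⁻¹ := by rw [hb]; group
      _ = ρ * (z * (s * a * s⁻¹) * z⁻¹) * ρ⁻¹ := by rw [e1]; group
      _ = b⁻¹ := by rw [hsa, hzinv haM, hb]; group
  have hb1 : b ≠ 1 := fun e => ha1 (conj_eq_one_iff.1 e)
  have hab := hc haM hbM
  have hfr := frame_add (hMel a haM) (hMel b hbM) hab
  refine ⟨a, b, haM, hbM, ?_, ?_⟩
  · have base : ∀ σ, (i σ * a * (i σ)⁻¹ = frame a b (act σ (1, 0)) ∧ i σ * b * (i σ)⁻¹ = frame a b (act σ (0, 1))) →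
        ∀ v, i σ * frame a b v * (i σ)⁻¹ = frame a b (act σ v) := by
      intro σ ⟨h1, h2⟩ v
      have hpow : ∀ (n : ℕ) (w : Vec), frame a b (n • w) = frame a b w ^ n := by
        intro n w
        induction n with
        | zero => simp [frame]
        | succ n ih => rw [succ_nsmul, hfr, ih, pow_succ]
      have hact := act_split σ v
      rw [hact, hfr, hpow, hpow, ← h1, ← h2, conj_pow, conj_pow, frame]
      group
    have gρ : ∀ v, ρ * frame a b v * ρ⁻¹ = frame a b (act (.r 1) v) := base _ ⟨by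
        rw [show act (.r 1) (1, 0) = ((0, 1) : Vec) by decide, ← hρ, ← hb]
        simp [frame], by
        rw [show act (.r 1) (0, 1) = ((2, 0) : Vec) by decide, ← hρ, hρb, inv3 haM]
        simp [frame, pow_two]⟩
    have gs : ∀ v, s * frame a b v * s⁻¹ = frame a b (act (.sr 0) v) := base _ ⟨by
        rw [show act (.sr 0) (1, 0) = ((1, 0) : Vec) by decide, ← hs, hsa]
        simp [frame], by
        rw [show act (.sr 0) (0, 1) = ((0, 2) : Vec) by decide, ← hs, hsb, inv3 hbM]
        simp [frame, pow_two]⟩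
    have mulc : ∀ σ τ, (∀ v, i σ * frame a b v * (i σ)⁻¹ = frame a b (act σ v)) →
        (∀ v, i τ * frame a b v * (i τ)⁻¹ = frame a b (act τ v)) →
        ∀ v, i (σ * τ) * frame a b v * (i (σ * τ))⁻¹ = frame a b (act (σ * τ) v) := fun σ τ h1 h2 v => by
      rw [map_mul, ← conj_conj, h2, h1, act_mul]
    have gr : ∀ k : ℕ, ∀ v, i (DihedralGroup.r 1 ^ k) * frame a b v * (i (DihedralGroup.r 1 ^ k))⁻¹ =
        frame a b (act (DihedralGroup.r 1 ^ k) v) := by
      intro k
      induction k with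
      | zero =>
        intro v
        rw [pow_zero, map_one, one_mul, inv_one, mul_one, act_one v]
      | succ k ih => rw [pow_succ]; exact mulc _ _ ih gρ
    intro σ
    have hdec : ∀ σ : DihEight, ∃ k : Fin 4, σ = .r 1 ^ k.val ∨ σ = .sr 0 * .r 1 ^ k.val := by decide +kernel
    obtain ⟨k, rfl | rfl⟩ := hdec σ
    exacts [gr _, mulc _ _ gs (gr _)]
  · have hnb : b ∉ zpowers a := by
      intro h
      obtain ⟨j, hj⟩ := mem_zpowers_iff.1 h
      have e1 : s * b * s⁻¹ = b := by rw [← hj, ← conj_zpow, hsa]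
      exact hb1 (sq1 hbM (eq_inv_iff_mul_eq_one.1 (e1.symm.trans hsb)))
    have ker : ∀ v, frame a b v = 1 → v = 0 := by
      rintro ⟨p, q⟩ hv
      have hq : q = 0 := by
        by_contra hq
        refine hnb ?_
        have hmem : b ^ q.val ∈ zpowers a := by
          rw [show b ^ q.val = (a ^ p.val)⁻¹ from eq_inv_of_mul_eq_one_right hv]
          exact inv_mem (pow_mem (mem_zpowers a) _)
        fin_cases q
        · exact absurd rfl hq
        · simpa using hmem
        · have := inv_mem hmem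
          simp only [Fin.reduceFinMk, Fin.val_two, pow_two] at this
          rwa [← inv3 hbM, inv_inv] at this
      subst hq
      simp only [frame, Fin.val_zero, pow_zero, mul_one] at hv
      have := orderOf_dvd_of_pow_eq_one hv
      rw [orderOf_eq_prime (hMel a haM) ha1] at this
      fin_cases p <;> simp at this ⊢
    intro v w hvw
    have h1 := hfr (v - w) w
    rw [sub_add_cancel, hvw] at h1
    exact sub_eq_zero.1 (ker _ (mul_eq_right.1 h1.symm))

include hM9 hMel hCM in
theorem nonempty_equiv (N : Subgroup G) (hN : N = normalizer ((M : Subgroup G) : Set G))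
    (hS : ∀ S : Sylow 2 ↥N, Nonempty (↥(S : Subgroup ↥N) ≃* DihEight)) :
    ∃ e : ↥N ≃* Grp, ∀ x : N, (x : G) ∈ (M : Subgroup G) ↔ IsTr (e x) := by
  haveI := Fact.mk Nat.prime_two
  haveI := Fact.mk Nat.prime_three
  obtain ⟨S⟩ : Nonempty (Sylow 2 N) := inferInstance
  obtain ⟨eS⟩ := hS S
  set i : DihEight →* G := N.subtype.comp ((S : Subgroup N).subtype.comp eS.symm.toMonoidHom) with hi
  have hiinj : Function.Injective i := fun p q h =>
    eS.symm.injective (Subtype.ext (Subtype.ext (by simpa [hi] using h)))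
  have hiN : ∀ σ, i σ ∈ N := fun σ => SetLike.coe_mem _
  obtain ⟨a, b, ha, hb, hact, hinj⟩ := exists_frame M hM9 hMel hCM i hiinj fun σ => hN ▸ hiN σ
  have hMN : (M : Subgroup G) ≤ N := hN ▸ le_normalizer
  have hfM : ∀ v, frame a b v ∈ (M : Subgroup G) := fun v => mul_mem (pow_mem ha _) (pow_mem hb _)
  have hhom : ∀ x y : Grp, frame a b (x * y).v * i (x * y).s =
      (frame a b x.v * i x.s) * (frame a b y.v * i y.s) := by
    intro x y
    rw [grp_mul_def, frame_add (hMel a ha) (hMel b hb) (sylow_comm M hCM ha hb), map_mul, ← hact]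
    group
  let φ : Grp →* N := MonoidHom.mk' (fun x => ⟨frame a b x.v * i x.s, mul_mem (hMN (hfM _)) (hiN _)⟩)
    fun x y => Subtype.ext (hhom x y)
  have hiM : ∀ σ, i σ ∈ (M : Subgroup G) → σ = 1 := by
    intro σ hm
    refine hiinj ?_
    rw [map_one]
    exact (pow_eq_one_iff_of_coprime (show Nat.Coprime 3 8 by norm_num)).1
      ⟨hMel _ hm, by rw [← map_pow, dih_pow8 σ, map_one]⟩
  have hφinj : Function.Injective φ := (injective_iff_map_eq_one φ).2 fun x hx => by
    have h1 : frame a b x.v * i x.s = 1 := congrArg Subtype.val hx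
    have hs : x.s = 1 := hiM _ (by rw [eq_inv_of_mul_eq_one_right h1]; exact inv_mem (hfM _))
    rw [hs, map_one, mul_one] at h1
    have hv : x.v = 0 := hinj (by rw [h1]; simp [frame])
    cases x
    simp only at hs hv
    subst hs hv
    rfl
  -- the order
  have hS8 : Nat.card (S : Subgroup N) = 8 := by
    rw [Nat.card_congr eS.toEquiv, Nat.card_eq_fintype_card, DihedralGroup.card]
  have hcardN : Nat.card N = 72 := by
    obtain ⟨MN, hMN'⟩ : ∃ MN : Sylow 3 N, (MN : Subgroup N) = (M : Subgroup G).subgroupOf N :=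
      ⟨M.subtype hMN, Sylow.coe_subtype ..⟩
    have h9 : Nat.card (MN : Subgroup N) = 9 := by
      rw [hMN', Nat.card_congr (subgroupOfEquivOfLe hMN).toEquiv, hM9]
    have hn0 : Nat.card N ≠ 0 := Nat.card_pos.ne'
    have f2 := S.card_eq_multiplicity
    have f3 := MN.card_eq_multiplicity
    rw [hS8] at f2
    rw [h9] at f3
    have e2 : (Nat.card N).factorization 2 = 3 := (Nat.pow_right_injective (le_refl 2) (f2.symm.trans rfl)).trans rfl
    have e3 : (Nat.card N).factorization 3 = 2 :=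
      Nat.pow_right_injective (show 2 ≤ 3 by norm_num) (show 3 ^ _ = 3 ^ 2 from f3.symm)
    have eq : ∀ q : ℕ, q.Prime → 5 ≤ q → ¬ q ∣ Nat.card N := by
      intro q hq hq5 hdvd
      haveI := Fact.mk hq
      obtain ⟨x, hx⟩ := exists_prime_orderOf_dvd_card' q hdvd
      let P : Subgroup N := zpowers x
      have hP : IsPGroup q P := IsPGroup.of_card (n := 1) (by rw [Nat.card_zpowers, hx, pow_one])
      let act' : MulAction P (M : Subgroup G) :=
        { smul := fun g m => ⟨(g.1 : G) * m * (g.1 : G)⁻¹, (mem_normalizer_iff.1 (hN ▸ g.1.2) _).1 m.2⟩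
          one_smul := fun m => Subtype.ext (show (1 : G) * m * 1⁻¹ = m by group)
          mul_smul := fun g h m => Subtype.ext (show ((g.1 : G) * h.1) * m * ((g.1 : G) * h.1)⁻¹ =
            (g.1 : G) * ((h.1 : G) * m * (h.1 : G)⁻¹) * (g.1 : G)⁻¹ by group) }
      have hmod := hP.card_modEq_card_fixedPoints (α := (M : Subgroup G))
      let F : Subgroup (M : Subgroup G) :=
        { carrier := {m | ∀ g : P, (g.1 : G) * m * (g.1 : G)⁻¹ = m}
          one_mem' := fun g => by simp
          mul_mem' := fun {p p'} hp hp' g => by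
            show (g.1 : G) * ((p : G) * p') * (g.1 : G)⁻¹ = p * p'
            calc _ = ((g.1 : G) * p * (g.1 : G)⁻¹) * ((g.1 : G) * p' * (g.1 : G)⁻¹) := by group
              _ = _ := by rw [hp g, hp' g]
          inv_mem' := fun {p} hp g => by
            show (g.1 : G) * (p : G)⁻¹ * (g.1 : G)⁻¹ = (p : G)⁻¹
            calc _ = ((g.1 : G) * p * (g.1 : G)⁻¹)⁻¹ := by group
              _ = _ := by rw [hp g] }
      have hF : Nat.card (MulAction.fixedPoints P (M : Subgroup G)) = Nat.card F :=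
        Nat.card_congr (Equiv.subtypeEquivRight fun m => ⟨fun h g => congrArg Subtype.val (h g),
          fun h g => Subtype.ext (h g)⟩)
      rw [hM9, hF] at hmod
      have hd := F.card_subgroup_dvd_card
      rw [hM9] at hd
      obtain ⟨k, hk, hk'⟩ := (Nat.dvd_prime_pow Nat.prime_three).1 (show _ ∣ 3 ^ 2 from hd)
      rw [hk'] at hmod
      interval_cases k
      · have h8 := (Nat.modEq_iff_dvd' (by norm_num)).1 hmod.symm
        norm_num at h8
        have := (Nat.prime_dvd_prime_iff_eq hq Nat.prime_two).1 (hq.dvd_of_dvd_pow (show q ∣ 2 ^ 3 from h8))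
        omega
      · have h6 := (Nat.modEq_iff_dvd' (by norm_num)).1 hmod.symm
        norm_num at h6
        rcases (Nat.Prime.dvd_mul hq).1 (show q ∣ 2 * 3 from h6) with h | h <;>
          have := Nat.le_of_dvd (by norm_num) h <;> omega
      · have hall : ∀ m ∈ (M : Subgroup G), (x : G) * m * (x : G)⁻¹ = m := fun m hm => by
          have : F = ⊤ := Subgroup.eq_top_of_card_eq F (by rw [hk', hM9]; norm_num)
          exact (this ▸ Subgroup.mem_top (⟨m, hm⟩ : (M : Subgroup G)) : _ ∈ F) ⟨x, mem_zpowers x⟩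
        have hxM : (x : G) ∈ (M : Subgroup G) := by
          rw [← hCM, mem_centralizer_iff]
          intro m hm
          exact (mul_inv_eq_iff_eq_mul.1 (hall m hm)).symm
        have h3 := orderOf_dvd_of_pow_eq_one (hMel _ hxM)
        rw [Subgroup.orderOf_coe, hx] at h3
        have := Nat.le_of_dvd (by norm_num) h3
        omega
    refine Nat.eq_of_factorization_eq hn0 (by norm_num) fun q => ?_
    by_cases hq : q.Prime
    · have h72 : (72 : ℕ) = 2 ^ 3 * 3 ^ 2 := by norm_num
      rw [h72, Nat.factorization_mul (by norm_num) (by norm_num), Nat.Prime.factorization_pow Nat.prime_two,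
        Nat.Prime.factorization_pow Nat.prime_three, Finsupp.add_apply, Finsupp.single_apply, Finsupp.single_apply]
      rcases eq_or_ne q 2 with rfl | h2
      · simp [e2]
      rcases eq_or_ne q 3 with rfl | h3
      · simp [e3]
      have h5 : 5 ≤ q := by
        have := hq.two_le
        have h4 : q ≠ 4 := fun e => absurd (e ▸ hq) (by norm_num)
        omega
      rw [Nat.factorization_eq_zero_of_not_dvd (eq q hq h5), if_neg (Ne.symm h2), if_neg (Ne.symm h3)]
      rfl
    · rw [Nat.factorization_eq_zero_of_not_prime _ hq, Nat.factorization_eq_zero_of_not_prime _ hq]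
  have hbij := (Nat.bijective_iff_injective_and_card φ).2
    ⟨hφinj, by rw [hcardN, Nat.card_eq_fintype_card, card_grp]⟩
  refine ⟨(MulEquiv.ofBijective φ hbij).symm, fun x => ?_⟩
  obtain ⟨y, rfl⟩ := hbij.2 x
  rw [show (MulEquiv.ofBijective φ hbij).symm (φ y) = y from (MulEquiv.ofBijective φ hbij).symm_apply_apply y]
  show frame a b y.v * i y.s ∈ (M : Subgroup G) ↔ y.s = 1
  exact ⟨fun h => hiM _ ((Subgroup.mul_mem_cancel_left _ (hfM _)).1 h), fun h => by rw [h, map_one, mul_one]; exact hfM _⟩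

end CfsgLib.WreathNine
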