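import Cfsg.Agent.S3716
import Cfsg.Agent.S3341
import Cfsg.Agent.Lib.ThreeNine.Main
import Cfsg.Agent.Lib.FGStruct.AltOddAut
import Cfsg.Agent.Lib.Solvable.Core
import Mathlib.GroupTheory.Transfer

/-!
A group with a self-centralizing Sylow subgroup `3²` with normalizer quotient `D₈` containing the
centralizers of its nonidentity elements has that subgroup normal, or is the symmetric group of degree six.
-/

set_option autoImplicit false

namespace CfsgLib.WreathNine

open Subgroup Equiv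

/-- order three elements of `A₆` that are not three-cycles are conjugate -/
theorem conj_of_not_threeCycle {x y : alternatingGroup (Fin 6)} (hx : orderOf x = 3) (hy : orderOf y = 3)
    (hx3 : ¬ (x : Perm (Fin 6)).IsThreeCycle) (hy3 : ¬ (y : Perm (Fin 6)).IsThreeCycle) : IsConj x y := by
  set d : Perm (Fin 6) := (swap 0 1 * swap 1 2) * (swap 3 4 * swap 4 5) with hd
  have hdo : orderOf d = 3 := orderOf_eq_prime (by decide) (by decide)
  have hdn : ¬ d.IsThreeCycle := fun h => absurd h.card_support (by decide)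
  have key : ∀ z : alternatingGroup (Fin 6), orderOf z = 3 → ¬ (z : Perm (Fin 6)).IsThreeCycle →
      ∃ g : alternatingGroup (Fin 6), ((g : Perm (Fin 6)) * d * (g : Perm (Fin 6))⁻¹) = z := by
    intro z hz hz3
    have hcyc : ∀ w : Perm (Fin 6), orderOf w = 3 → ¬ w.IsThreeCycle → w.cycleType = {3, 3} := by
      intro w hw hw3
      obtain ⟨k, hk⟩ := Perm.cycleType_prime_order (σ := w) (by rw [hw]; exact Nat.prime_three)
      have hs := Perm.sum_cycleType w
      have hle := Finset.card_le_univ w.support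
      rw [hk, Multiset.sum_replicate, hw, smul_eq_mul] at hs
      rw [Fintype.card_fin] at hle
      rw [hk, hw]
      obtain rfl | rfl : k = 0 ∨ k = 1 := by omega
      · exact absurd (show w.cycleType = {3} by rw [hk, hw]; rfl) hw3
      · rfl
    obtain ⟨g, hg⟩ := isConj_iff.1 (Perm.isConj_iff_cycleType_eq.2
      ((hcyc d hdo hdn).trans (hcyc (z : Perm (Fin 6)) (by rw [orderOf_coe, hz]) hz3).symm))
    rcases Int.units_eq_one_or (Perm.sign g) with h | h
    · exact ⟨⟨g, h⟩, hg⟩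
    · refine ⟨⟨g * (swap 0 3 * swap 1 4 * swap 2 5), ?_⟩, ?_⟩
      · rw [Perm.mem_alternatingGroup, map_mul, h]; decide
      · rw [← hg]
        show g * (swap 0 3 * swap 1 4 * swap 2 5) * d * (g * (swap 0 3 * swap 1 4 * swap 2 5))⁻¹ = g * d * g⁻¹
        have : (swap 0 3 * swap 1 4 * swap 2 5) * d * (swap 0 3 * swap 1 4 * swap 2 5 : Perm (Fin 6))⁻¹ = d := by
          decide
        conv_rhs => rw [← this]
        group
  obtain ⟨g, hg⟩ := key x hx hx3
  obtain ⟨g', hg'⟩ := key y hy hy3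
  refine isConj_iff.2 ⟨g' * g⁻¹, Subtype.ext ?_⟩
  push_cast
  rw [← hg, ← hg']
  group

variable {G : Type*} [Group G] [Finite G]

theorem conj_three {s : G} (hs : s ^ 3 = 1) (g : G) : (g * s * g⁻¹) ^ 3 = 1 := by rw [conj_pow, hs]; group

/-- four subgroups of order three acting coprimely and without fixed points -/
theorem fpf_nine {S Q : Subgroup G} (hcard : Nat.card S = 9) (hel : ∀ s ∈ S, s ^ 3 = 1)
    (hcomm : ∀ s ∈ S, ∀ t ∈ S, s * t = t * s)
    (hnorm : ∀ s ∈ S, ∀ q ∈ Q, s * q * s⁻¹ ∈ Q) (hQ : ¬ 3 ∣ Nat.card Q)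
    (hfix : ∀ s ∈ S, s ≠ 1 → ∀ q ∈ Q, s * q * s⁻¹ = q → q = 1) : Q = ⊥ := by
  classical
  haveI := Fact.mk Nat.prime_three
  by_contra hQ1
  have hQne : Nat.card Q ≠ 1 := fun h => hQ1 (Subgroup.eq_bot_of_card_eq Q h)
  obtain ⟨q, hq, hqd⟩ := Nat.exists_prime_and_dvd hQne
  haveI := Fact.mk hq
  -- a Sylow subgroup normalised by `S`
  let φ : S →* MulAut Q := MonoidHom.mk'
    (fun s => { toFun := fun x => ⟨(s : G) * x * (s : G)⁻¹, hnorm s s.2 x x.2⟩
                invFun := fun x => ⟨(s : G)⁻¹ * x * (s : G), by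
                  simpa using hnorm (s : G)⁻¹ (inv_mem s.2) x x.2⟩
                left_inv := fun x => Subtype.ext (by simp [mul_assoc])
                right_inv := fun x => Subtype.ext (by simp [mul_assoc])
                map_mul' := fun x y => Subtype.ext (by simp [mul_assoc]) })
    fun s t => MulEquiv.ext fun x => Subtype.ext (by simp [mul_assoc])
  letI : MulDistribMulAction S Q := MulDistribMulAction.compHom Q φ
  have hS : IsPGroup 3 S := IsPGroup.of_card (n := 2) (by rw [hcard]; norm_num)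
  have hnd : ¬ 3 ∣ Nat.card (Sylow q Q) := fun h =>
    hQ (h.trans ((Sylow.card_dvd_index (default : Sylow q Q)).trans (Subgroup.index_dvd_card _)))
  obtain ⟨P, hP⟩ := hS.nonempty_fixed_point_of_prime_not_dvd_card (Sylow q Q) hnd
  have hPinv : ∀ s : S, ∀ x : Q, x ∈ (P : Subgroup Q) → φ s x ∈ (P : Subgroup Q) := by
    intro s x hx
    have h := hP s
    have : φ s x ∈ ((s • P : Sylow q Q) : Subgroup Q) := Subgroup.smul_mem_pointwise_smul x s _ hx
    rwa [h] at this
  have hPne : Nontrivial (P : Subgroup Q) := by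
    rw [← Finite.one_lt_card_iff_nontrivial, P.card_eq_multiplicity]
    exact Nat.one_lt_pow (hq.factorization_pos_of_dvd Nat.card_pos.ne' hqd).ne' hq.one_lt
  haveI := P.2.center_nontrivial
  obtain ⟨⟨v, hv⟩, hv1⟩ := exists_ne (1 : center (P : Subgroup Q))
  -- the centre as an abelian group inside `G`
  let Z : Subgroup G := ((center (P : Subgroup Q)).map (P : Subgroup Q).subtype).map Q.subtype
  have hZinv : ∀ s ∈ S, ∀ x ∈ Z, s * x * s⁻¹ ∈ Z := by
    rintro s hs _ ⟨_, ⟨x, hx, rfl⟩, rfl⟩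
    refine ⟨φ ⟨s, hs⟩ x, ⟨⟨_, hPinv ⟨s, hs⟩ x x.2⟩, ?_, rfl⟩, rfl⟩
    rw [SetLike.mem_coe, mem_center_iff]
    intro y
    have h1 : φ ⟨s, hs⟩⁻¹ (y : Q) ∈ (P : Subgroup Q) := hPinv _ _ y.2
    have h2 := congrArg (fun z : (P : Subgroup Q) => φ ⟨s, hs⟩ (z : Q)) (mem_center_iff.1 hx ⟨_, h1⟩)
    simp only [Subgroup.coe_mul, map_mul, map_inv] at h2
    refine Subtype.ext ?_
    simpa using h2
  have hZQ : Z ≤ Q := by rintro _ ⟨x, -, rfl⟩; exact x.2
  have hZc : ∀ x ∈ Z, ∀ y ∈ Z, x * y = y * x := by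
    rintro _ ⟨_, ⟨x, hx, rfl⟩, rfl⟩ _ ⟨_, ⟨y, hy, rfl⟩, rfl⟩
    rw [← map_mul, ← map_mul, ← map_mul, ← map_mul]
    exact congrArg _ (congrArg _ (mem_center_iff.1 hy x))
  obtain ⟨a, ha, ha1⟩ : ∃ a ∈ S, a ≠ 1 := by
    by_contra h
    push Not at h
    rw [show S = ⊥ from (eq_bot_iff_forall S).2 h, Subgroup.card_bot] at hcard
    omega
  obtain ⟨b, hb, hba⟩ : ∃ b ∈ S, b ∉ zpowers a := by
    by_contra h
    push Not at h
    have h' := Subgroup.card_dvd_of_le (show S ≤ zpowers a from h)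
    rw [hcard, Nat.card_zpowers, orderOf_eq_prime (hel a ha) ha1] at h'
    norm_num at h'
  letI : CommGroup Z := { (inferInstance : Group Z) with
    mul_comm := fun x y => Subtype.ext (hZc _ x.2 _ y.2) }
  let act : S → Z → Z := fun s x => ⟨(s : G) * x * (s : G)⁻¹, hZinv s s.2 x x.2⟩
  have act_mul : ∀ s t x, act s (act t x) = act (s * t) x := fun s t x => Subtype.ext (by simp [act, mul_assoc])
  have act_hom : ∀ s x y, act s (x * y) = act s x * act s y := fun s x y => Subtype.ext (by simp [act, mul_assoc])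
  have norm1 : ∀ s : S, s ≠ 1 → ∀ x : Z, x * act s x * act (s * s) x = 1 := by
    intro s hs x
    have hs3 : s * (s * s) = 1 := Subtype.ext (by
      have := hel s s.2
      rw [pow_three] at this
      simpa using this)
    refine Subtype.ext (hfix s s.2 (fun h => hs (Subtype.ext h)) _ (hZQ (Subtype.coe_prop _)) ?_)
    show ((act s (x * act s x * act (s * s) x) : Z) : G) = _
    congr 1
    rw [act_hom, act_hom, act_mul, act_mul, hs3]
    have : act 1 x = x := Subtype.ext (by simp [act])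
    rw [this]
    ac_rfl
  set A : S := ⟨a, ha⟩
  set B : S := ⟨b, hb⟩
  have hA : A ≠ 1 := fun h => ha1 (congrArg Subtype.val h)
  have hbne : ∀ k : ℕ, b ≠ a ^ k := fun k h => hba (h ▸ pow_mem (mem_zpowers a) k)
  have ha2 : a⁻¹ = a ^ 2 := inv_eq_of_mul_eq_one_right (by rw [← pow_succ']; exact hel a ha)
  have hB : B ≠ 1 := fun h => hbne 0 (by rw [pow_zero]; exact congrArg Subtype.val h)
  have hAB : A * B ≠ 1 := fun h => hbne 2 (by
    rw [← ha2]; exact eq_inv_of_mul_eq_one_right (congrArg Subtype.val h))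
  have hAAB : A * A * B ≠ 1 := fun h => hbne 1 (by
    have h' : a * a * b = 1 := congrArg Subtype.val h
    calc b = (a * a * a) * b := by rw [← pow_three', hel a ha, one_mul]
      _ = a * (a * a * b) := by group
      _ = a ^ 1 := by rw [h', mul_one, pow_one])
  set x : Z := ⟨((v : (P : Subgroup Q)) : Q), ⟨_, ⟨v, hv, rfl⟩, rfl⟩⟩ with hx
  have hcomS : ∀ s t : S, s * t = t * s := fun s t => Subtype.ext (hcomm _ s.2 _ t.2)
  have p1 := norm1 A hA x
  have p2 := norm1 B hB x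
  have p3 := norm1 (A * B) hAB x
  have p4 := norm1 (A * A * B) hAAB x
  have q1 : act B (x * act A x * act (A * A) x) = 1 := by rw [p1]; exact Subtype.ext (by simp [act])
  have q2 : act (B * B) (x * act A x * act (A * A) x) = 1 := by rw [p1]; exact Subtype.ext (by simp [act])
  simp only [act_hom, act_mul] at q1 q2
  have e1 : B * A = A * B := hcomS _ _
  have e2 : B * (A * A) = A * A * B := hcomS _ _
  have e3 : A * B * (A * B) = A * A * (B * B) := by rw [mul_assoc, ← mul_assoc B, e1]; group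
  have hA4 : A * A * (A * A) = A := Subtype.ext (by
    show a * a * (a * a) = a
    calc a * a * (a * a) = (a * a * a) * a := by group
      _ = a := by rw [← pow_three', hel a ha, one_mul])
  have e4 : A * A * B * (A * A * B) = A * (B * B) := by
    calc A * A * B * (A * A * B) = A * A * (B * (A * A)) * B := by group
      _ = A * (B * B) := by rw [e2, ← mul_assoc, hA4]; group
  have e5 : B * B * A = A * (B * B) := hcomS _ _
  have e6 : B * B * (A * A) = A * A * (B * B) := hcomS _ _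
  rw [e1, e2] at q1
  rw [e5, e6] at q2
  rw [e3] at p3
  rw [e4] at p4
  have h3 : x ^ 3 = 1 := by
    have h : (x * act A x * act (A * A) x) * (x * act B x * act (B * B) x) *
        (x * act (A * B) x * act (A * A * (B * B)) x) * (x * act (A * A * B) x * act (A * (B * B)) x) =
        x ^ 3 * ((x * act A x * act (A * A) x) * (act B x * act (A * B) x * act (A * A * B) x) *
          (act (B * B) x * act (A * (B * B)) x * act (A * A * (B * B)) x)) := by
      rw [pow_three]; ac_rfl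
    rw [p1, p2, p3, p4, q1, q2] at h
    simpa using h.symm
  have hx1 : (x : G) ≠ 1 := fun h => hv1 (Subtype.ext (Subtype.ext (Subtype.ext h)))
  have h3' : (x : G) ^ 3 = 1 := congrArg Subtype.val h3
  have h' := Subgroup.orderOf_dvd_natCard Q (hZQ x.2)
  rw [orderOf_eq_prime h3' hx1] at h'
  exact hQ h'

theorem dih_facts : (∀ d : DihedralGroup 4, d ^ 3 = 1 → d = 1) ∧
    (∃ c d : DihedralGroup 4, c * d ≠ d * c) ∧
    (∀ d : DihedralGroup 4, d ≠ 1 → d = .r 2 ∨ ∃ c : DihedralGroup 4, c * d * c⁻¹ * d⁻¹ = .r 2) ∧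
    (∀ d : DihedralGroup 4, d = .r 0 ∨ d = .r 1 ∨ d = .r 2 ∨ d = .r 3 ∨
      ∃ k, d = DihedralGroup.sr k) ∧
    (∀ d : DihedralGroup 4, DihedralGroup.r 2 * d = d * DihedralGroup.r 2) := by
  refine ⟨by decide, by decide, by decide, by decide, by decide⟩

set_option maxHeartbeats 1600000 in
/-- either the subgroup is normal, or the group is the symmetric group of degree six -/
theorem normal_or_sym_six (P : Sylow 3 G) (hcard : Nat.card (P : Subgroup G) = 9)
    (hC : centralizer ((P : Subgroup G) : Set G) = (P : Subgroup G))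
    (eN : normalizer ((P : Subgroup G) : Set G) ⧸ (P : Subgroup G).subgroupOf (normalizer ((P : Subgroup G) : Set G)) ≃*
      DihedralGroup 4)
    (hcent : ∀ x ∈ (P : Subgroup G), x ≠ 1 →
      centralizer ({x} : Set G) ≤ normalizer ((P : Subgroup G) : Set G)) :
    (P : Subgroup G).Normal ∨ Nonempty (G ≃* Perm (Fin 6)) := by
  classical
  haveI := Fact.mk Nat.prime_three
  set S := (P : Subgroup G) with hSdef
  set N := normalizer (S : Set G) with hNdef
  have hSN : S ≤ N := le_normalizer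
  let π : N →* DihedralGroup 4 := eN.toMonoidHom.comp (QuotientGroup.mk' _)
  have hπ : ∀ x : N, π x = 1 ↔ (x : G) ∈ S := fun x =>
    (map_eq_one_iff eN eN.injective).trans ((QuotientGroup.eq_one_iff x).trans mem_subgroupOf)
  have hπs : Function.Surjective π := eN.surjective.comp (QuotientGroup.mk'_surjective _)
  have hNc : ∀ x : N, ∀ s ∈ S, (x : G) * s * (x : G)⁻¹ ∈ S := fun x s hs => (mem_normalizer_iff.1 x.2 s).1 hs
  have hcomm : ∀ s ∈ S, ∀ t ∈ S, s * t = t * s := fun s hs t ht =>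
    mem_centralizer_iff.1 (show t ∈ centralizer (S : Set G) by rw [hC]; exact ht) s hs
  have hinS : ∀ x : N, (∀ s ∈ S, (x : G) * s * (x : G)⁻¹ = s) → π x = 1 := fun x h => (hπ x).2 (by
    rw [← hC, mem_centralizer_iff]
    exact fun s hs => (mul_inv_eq_iff_eq_mul.1 (h s hs)).symm)
  -- the exponent
  have hel : ∀ s ∈ S, s ^ 3 = 1 := by
    by_contra hcon
    push Not at hcon
    obtain ⟨g, hg, hg3⟩ := hcon
    have hgen : ∀ s ∈ S, s ∈ zpowers g := by
      have hd : orderOf g ∣ 3 ^ 2 := by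
        have := Subgroup.orderOf_dvd_natCard S hg
        rwa [hcard] at this
      obtain ⟨k, hk, hk'⟩ := (Nat.dvd_prime_pow Nat.prime_three).1 hd
      have h9 : orderOf g = 9 := by
        interval_cases k
        · exact absurd (by rw [orderOf_eq_one_iff.1 hk', one_pow]) hg3
        · exact absurd (by rw [← show orderOf g = 3 from hk']; exact pow_orderOf_eq_one g) hg3
        · exact hk'
      intro s hs
      rwa [Subgroup.eq_of_le_of_card_ge (zpowers_le.2 hg) (by rw [hcard, Nat.card_zpowers, h9])]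
    obtain ⟨c, d, hcd⟩ := dih_facts.2.1
    obtain ⟨x, rfl⟩ := hπs c
    obtain ⟨y, rfl⟩ := hπs d
    obtain ⟨i, hi⟩ := mem_zpowers_iff.1 (hgen _ (hNc x g hg))
    obtain ⟨j, hj⟩ := mem_zpowers_iff.1 (hgen _ (hNc y g hg))
    have e : ((x * y : N) : G) * g * ((x * y : N) : G)⁻¹ = ((y * x : N) : G) * g * ((y * x : N) : G)⁻¹ := by
      push_cast
      rw [← conj_conj, ← conj_conj, ← hi, ← hj, ← conj_zpow, ← conj_zpow, ← hi, ← hj, ← zpow_mul, ← zpow_mul,
        mul_comm i j]
    have h : π ((y * x)⁻¹ * (x * y)) = 1 := by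
      refine hinS _ fun s hs => ?_
      obtain ⟨k, rfl⟩ := mem_zpowers_iff.1 (hgen s hs)
      rw [← conj_zpow]
      congr 1
      push_cast at e ⊢
      calc _ = ((y : G) * x)⁻¹ * (((x : G) * y) * g * ((x : G) * y)⁻¹) * ((y : G) * x) := by group
        _ = g := by rw [e]; group
    rw [map_mul, map_inv, inv_mul_eq_one, map_mul, map_mul] at h
    exact hcd h.symm
  have irr : ∀ T : Subgroup G, T ≤ S → T ≠ ⊥ → (∀ x : N, ∀ t ∈ T, (x : G) * t * (x : G)⁻¹ ∈ T) → T = S := by
    intro T hTS hT hinv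
    by_contra hne
    have hT3 : Nat.card T = 3 := by
      have hd := Subgroup.card_dvd_of_le hTS
      rw [hcard] at hd
      obtain ⟨k, hk, hk'⟩ := (Nat.dvd_prime_pow Nat.prime_three).1 (show _ ∣ 3 ^ 2 from hd)
      interval_cases k
      · exact absurd (Subgroup.eq_bot_of_card_eq T hk') hT
      · exact hk'
      · exact absurd (Subgroup.eq_of_le_of_card_ge hTS (by rw [hcard, hk']; norm_num)) hne
    obtain ⟨c, d, hcd⟩ := dih_facts.2.1
    obtain ⟨x, rfl⟩ := hπs c
    obtain ⟨y, rfl⟩ := hπs d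
    suffices h : π (((y * x)⁻¹ * (x * y)) ^ 3) = 1 by
      have h' := dih_facts.1 _ ((map_pow π ((y * x)⁻¹ * (x * y)) 3).symm.trans h)
      rw [map_mul, map_inv, inv_mul_eq_one, map_mul, map_mul] at h'
      exact hcd h'.symm
    -- the actions on `T` and modulo `T`
    obtain ⟨t, ht, ht1⟩ : ∃ t ∈ T, t ≠ 1 := by
      by_contra h
      push Not at h
      exact hT ((eq_bot_iff_forall T).2 h)
    have hTgen : ∀ u ∈ T, ∃ i : ℤ, t ^ i = u := by
      intro u hu
      refine mem_zpowers_iff.1 ?_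
      rwa [Subgroup.eq_of_le_of_card_ge (zpowers_le.2 ht) (by
        rw [hT3, Nat.card_zpowers, orderOf_eq_prime (hel t (hTS ht)) ht1])]
    obtain ⟨s, hs, hsT⟩ : ∃ s ∈ S, s ∉ T := by
      by_contra h
      push Not at h
      exact hne (le_antisymm hTS h)
    have hSgen : ∀ u ∈ S, ∃ (i : ℤ) (w : G), w ∈ T ∧ u = s ^ i * w := by
      let W : Subgroup G :=
        { carrier := {u | ∃ (i : ℤ) (w : G), w ∈ T ∧ u = s ^ i * w}
          one_mem' := ⟨0, 1, one_mem T, by simp⟩
          mul_mem' := by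
            rintro _ _ ⟨i, w, hw, rfl⟩ ⟨j, w', hw', rfl⟩
            refine ⟨i + j, w * w', mul_mem hw hw', ?_⟩
            rw [zpow_add, mul_assoc, ← mul_assoc w, hcomm w (hTS hw) (s ^ j) (zpow_mem hs j)]
            group
          inv_mem' := by
            rintro _ ⟨i, w, hw, rfl⟩
            refine ⟨-i, w⁻¹, inv_mem hw, ?_⟩
            rw [mul_inv_rev, ← zpow_neg, hcomm w⁻¹ (inv_mem (hTS hw)) (s ^ (-i)) (zpow_mem hs _)] }
      have hW : W ≤ S := by rintro _ ⟨i, w, hw, rfl⟩; exact mul_mem (zpow_mem hs i) (hTS hw)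
      have hTW : T < W := lt_of_le_of_ne (fun w hw => ⟨0, w, hw, by simp⟩) fun e =>
        hsT (e ▸ (⟨1, 1, one_mem T, by simp⟩ : s ∈ W))
      have hd := Subgroup.card_dvd_of_le hW
      rw [hcard] at hd
      obtain ⟨k, hk, hk'⟩ := (Nat.dvd_prime_pow Nat.prime_three).1 (show _ ∣ 3 ^ 2 from hd)
      have hlt : 3 < Nat.card W := by
        refine lt_of_le_of_ne (hT3 ▸ Nat.le_of_dvd Nat.card_pos (Subgroup.card_dvd_of_le hTW.le)) fun e => ?_
        exact hTW.ne (Subgroup.eq_of_le_of_card_ge hTW.le (by rw [hT3, ← e]))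
      have : W = S := Subgroup.eq_of_le_of_card_ge hW (by
        rw [hcard]
        interval_cases k <;> omega)
      intro u hu
      rwa [← this] at hu
    have step : ∀ n : N, ∃ i j : ℤ, (n : G) * t * (n : G)⁻¹ = t ^ i ∧
        ∃ w ∈ T, (n : G) * s * (n : G)⁻¹ = s ^ j * w := fun n => by
      obtain ⟨i, hi⟩ := hTgen _ (hinv n t ht)
      obtain ⟨j, w, hw, hj⟩ := hSgen _ (hNc n s hs)
      exact ⟨i, j, hi.symm, w, hw, hj⟩
    obtain ⟨i, j, hxt, w, hw, hxs⟩ := step x
    obtain ⟨i', j', hyt, w', hw', hys⟩ := step y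
    set g := ((x : G) * y) with hg
    set g' := ((y : G) * x) with hg'
    have et : g * t * g⁻¹ = g' * t * g'⁻¹ := by
      rw [hg, hg', ← conj_conj, ← conj_conj, hxt, hyt, ← conj_zpow, ← conj_zpow, hxt, hyt, ← zpow_mul, ← zpow_mul,
        mul_comm i i']
    obtain ⟨u, hu, es⟩ : ∃ u ∈ T, g * s * g⁻¹ = g' * s * g'⁻¹ * u := by
      refine ⟨(w' ^ j)⁻¹ * (s ^ (j * j'))⁻¹ * (g * s * g⁻¹) * ((y : G) * w * (y : G)⁻¹)⁻¹, ?_, ?_⟩
      · have : g * s * g⁻¹ = s ^ (j * j') * (w ^ j' * ((x : G) * w' * (x : G)⁻¹)) := by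
          rw [hg, ← conj_conj, hys,
            show (x : G) * (s ^ j' * w') * (x : G)⁻¹ = ((x : G) * s ^ j' * (x : G)⁻¹) * ((x : G) * w' * (x : G)⁻¹) by group,
            ← conj_zpow, hxs, Commute.mul_zpow (hcomm _ (zpow_mem hs j) _ (hTS hw)), ← zpow_mul, mul_assoc]
        rw [this]
        have h' : ∀ p q : G, (w' ^ j)⁻¹ * p⁻¹ * (p * q) * ((y : G) * w * (y : G)⁻¹)⁻¹ =
            (w' ^ j)⁻¹ * q * ((y : G) * w * (y : G)⁻¹)⁻¹ := fun p q => by group
        rw [h']
        exact mul_mem (mul_mem (inv_mem (zpow_mem hw' j)) (mul_mem (zpow_mem hw j') (hinv x w' hw')))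
          (inv_mem (hinv y w hw))
      · have : g' * s * g'⁻¹ = s ^ (j * j') * (w' ^ j * ((y : G) * w * (y : G)⁻¹)) := by
          rw [hg', ← conj_conj, hxs,
            show (y : G) * (s ^ j * w) * (y : G)⁻¹ = ((y : G) * s ^ j * (y : G)⁻¹) * ((y : G) * w * (y : G)⁻¹) by group,
            ← conj_zpow, hys, Commute.mul_zpow (hcomm _ (zpow_mem hs j') _ (hTS hw')), ← zpow_mul, mul_assoc,
            mul_comm j' j]
        have hyw := hTS (hinv y w hw)
        have hgs : g * s * g⁻¹ ∈ S := hNc (x * y) s hs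
        rw [this]
        set Y := (y : G) * w * (y : G)⁻¹
        set V := (w' ^ j)⁻¹ * (s ^ (j * j'))⁻¹ * (g * s * g⁻¹) * Y⁻¹
        have hV : V ∈ S := mul_mem (mul_mem (mul_mem (inv_mem (zpow_mem (hTS hw') j)) (inv_mem (zpow_mem hs _))) hgs)
          (inv_mem hyw)
        calc g * s * g⁻¹ = s ^ (j * j') * w' ^ j * (V * Y) := by simp only [V]; group
          _ = s ^ (j * j') * w' ^ j * (Y * V) := by rw [hcomm V hV Y hyw]
          _ = _ := by group
    have hgS : ∀ r ∈ S, g'⁻¹ * r * g' ∈ S := fun r hr => by simpa [hg', mul_assoc] using hNc (y * x)⁻¹ r hr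
    set k := g'⁻¹ * g with hk
    have kt : k * t * k⁻¹ = t := by
      rw [hk, show g'⁻¹ * g * t * (g'⁻¹ * g)⁻¹ = g'⁻¹ * (g * t * g⁻¹) * g' by group, et]; group
    obtain ⟨r, hr, ks⟩ : ∃ r ∈ T, k * s * k⁻¹ = s * r := ⟨g'⁻¹ * u * g', by
      simpa [hg', mul_assoc] using hinv (y * x)⁻¹ u hu, by
      rw [hk, show g'⁻¹ * g * s * (g'⁻¹ * g)⁻¹ = g'⁻¹ * (g * s * g⁻¹) * g' by group, es]; group⟩
    have kT : ∀ p ∈ T, k * p * k⁻¹ = p := fun p hp => by
      obtain ⟨l, rfl⟩ := hTgen p hp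
      rw [← conj_zpow, kt]
    have k3 : ∀ q ∈ S, k ^ 3 * q * (k ^ 3)⁻¹ = q := by
      intro q hq
      obtain ⟨l, p, hp, rfl⟩ := hSgen q hq
      have e1 : k ^ 3 * s * (k ^ 3)⁻¹ = s := by
        calc k ^ 3 * s * (k ^ 3)⁻¹ = k * (k * (k * s * k⁻¹) * k⁻¹) * k⁻¹ := by simp only [pow_three]; group
          _ = k * (k * (s * r) * k⁻¹) * k⁻¹ := by rw [ks]
          _ = k * (k * s * k⁻¹ * (k * r * k⁻¹)) * k⁻¹ := by group
          _ = k * (s * r * r) * k⁻¹ := by rw [ks, kT r hr]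
          _ = (k * s * k⁻¹) * (k * r * k⁻¹) * (k * r * k⁻¹) := by group
          _ = s * r ^ 3 := by rw [ks, kT r hr, pow_three]; group
          _ = s := by rw [hel r (hTS hr), mul_one]
      have e2 : k ^ 3 * p * (k ^ 3)⁻¹ = p := by
        calc k ^ 3 * p * (k ^ 3)⁻¹ = k * (k * (k * p * k⁻¹) * k⁻¹) * k⁻¹ := by simp only [pow_three]; group
          _ = p := by rw [kT p hp, kT p hp, kT p hp]
      calc _ = (k ^ 3 * s ^ l * (k ^ 3)⁻¹) * (k ^ 3 * p * (k ^ 3)⁻¹) := by group
        _ = _ := by rw [← conj_zpow, e1, e2]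
    refine hinS _ fun q hq => ?_
    have hkc : ((((y * x)⁻¹ * (x * y)) ^ 3 : N) : G) = k ^ 3 := by push_cast; rw [hk, hg, hg']
    rw [hkc]
    exact k3 q hq
  -- coprime invariant subgroups are trivial
  have hQ : ∀ Q : Subgroup G, ¬ 3 ∣ Nat.card Q → (∀ s ∈ S, ∀ q ∈ Q, s * q * s⁻¹ ∈ Q) → Q = ⊥ := by
    intro Q h3 hn
    refine fpf_nine hcard hel hcomm hn h3 fun s hs hs1 q hq hsq => ?_
    have hqN : q ∈ N := hcent s hs hs1 (mem_centralizer_singleton_iff.2 (mul_inv_eq_iff_eq_mul.1 hsq).symm)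
    have hQS : ∀ r ∈ Q, r ∈ S → r = 1 := fun r hr hrS => by
      by_contra h1
      refine h3 ?_
      rw [← orderOf_eq_prime (hel r hrS) h1]
      exact Subgroup.orderOf_dvd_natCard Q hr
    refine hQS q hq ?_
    rw [← hC, mem_centralizer_iff]
    intro r hr
    have h1 : r * q * r⁻¹ * q⁻¹ = 1 := hQS _ (mul_mem (hn r hr q hq) (inv_mem hq)) (by
      rw [show r * q * r⁻¹ * q⁻¹ = r * (q * r⁻¹ * q⁻¹) by group]
      exact mul_mem hr (hNc ⟨q, hqN⟩ _ (inv_mem hr)))
    calc r * q = (r * q * r⁻¹ * q⁻¹) * (q * r) := by group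
      _ = q * r := by rw [h1, one_mul]
  -- elements of order dividing three in the normalizer
  have hthree : ∀ g ∈ N, g ^ 3 = 1 → g ∈ S := fun g hg h3 =>
    (hπ ⟨g, hg⟩).1 (dih_facts.1 _ (by rw [← map_pow, show (⟨g, hg⟩ : N) ^ 3 = 1 from Subtype.ext h3, map_one]))
  -- invariant subgroups meet `S`
  have hmeet : ∀ (K L : Subgroup G), S ≤ K → L ≤ K → L ≠ ⊥ → (∀ k ∈ K, ∀ l ∈ L, k * l * k⁻¹ ∈ L) →
      S ⊓ L ≠ ⊥ := by
    intro K L hSK hLK hL hn hbot
    by_cases h3 : 3 ∣ Nat.card L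
    · obtain ⟨⟨y, hy⟩, hyo⟩ := exists_prime_orderOf_dvd_card' 3 h3
      rw [Subgroup.orderOf_mk] at hyo
      have hY : IsPGroup 3 (zpowers (⟨y, hLK hy⟩ : K)) := IsPGroup.of_card (n := 1) (by
        rw [Nat.card_zpowers, Subgroup.orderOf_mk, hyo, pow_one])
      obtain ⟨R, hR⟩ := hY.exists_le_sylow
      obtain ⟨k, hk⟩ := MulAction.exists_smul_eq K R (P.subtype hSK)
      have : k * ⟨y, hLK hy⟩ * k⁻¹ ∈ ((P.subtype hSK : Sylow 3 K) : Subgroup K) := by
        rw [← hk, Sylow.coe_subgroup_smul]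
        exact Subgroup.smul_mem_pointwise_smul _ (MulAut.conj k) _ (hR (mem_zpowers _))
      rw [Sylow.coe_subtype, mem_subgroupOf] at this
      have hb := hbot ▸ (mem_inf.2 ⟨this, hn k k.2 y hy⟩ : (k : G) * y * (k : G)⁻¹ ∈ S ⊓ L)
      rw [mem_bot, conj_eq_one_iff] at hb
      subst hb
      rw [orderOf_one] at hyo
      omega
    · exact hL (hQ L h3 fun s hs => hn s (hSK hs))
  -- a minimal normal subgroup
  have hGne : (⊤ : Subgroup G) ≠ ⊥ := fun h => by
    have h1 := Subgroup.card_le_of_le (le_top : S ≤ ⊤)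
    rw [h, Subgroup.card_bot, hcard] at h1
    omega
  obtain ⟨K, hKn, hK1, -, hKmin⟩ := Solvable.exists_minimal_normal_le (⊤ : Subgroup G) hGne
  have hSK : S ≤ K := by
    have hne := hmeet ⊤ K le_top le_top hK1 fun g _ l hl => hKn.conj_mem l hl g
    have := irr (S ⊓ K) inf_le_left hne fun x t ht => mem_inf.2 ⟨hNc x t ht.1, hKn.conj_mem t ht.2 x⟩
    exact this ▸ inf_le_right
  by_cases hKN : K ≤ N
  · left
    refine ⟨fun s hs g => hthree _ (hKN (hKn.conj_mem s (hSK hs) g)) (conj_three (hel s hs) g)⟩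
  -- simplicity
  have hKsimple : IsSimpleGroup K := by
    haveI : Nontrivial K := (Subgroup.nontrivial_iff_ne_bot K).2 hK1
    refine ⟨fun L₀ hL₀ => or_iff_not_imp_left.2 fun hL₀1 => ?_⟩
    haveI := hL₀
    obtain ⟨M₀, hM₀n, hM₀1, hM₀le, hM₀min⟩ := Solvable.exists_minimal_normal_le L₀ hL₀1
    suffices hM : M₀ = ⊤ by exact top_le_iff.1 (hM ▸ hM₀le)
    by_contra hMtop
    set L := M₀.map K.subtype with hL
    have hLK : L ≤ K := map_subtype_le M₀
    have hL1 : L ≠ ⊥ := fun h => hM₀1 ((map_eq_bot_iff_of_injective _ K.subtype_injective).1 h)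
    have hLn : ∀ k ∈ K, ∀ l ∈ L, k * l * k⁻¹ ∈ L := by
      rintro k hk _ ⟨l, hl, rfl⟩
      exact ⟨_, hM₀n.conj_mem l hl ⟨k, hk⟩, rfl⟩
    obtain ⟨g, l, hl, hgl⟩ : ∃ g : G, ∃ l ∈ L, g * l * g⁻¹ ∉ L := by
      by_contra h
      push Not at h
      rcases hKmin L ⟨fun l hl g => h g l hl⟩ hLK with h' | h'
      · exact hL1 h'
      · exact hMtop (map_injective K.subtype_injective (by rw [← MonoidHom.range_eq_map, K.range_subtype]; exact h'))
    set L' := L.map (MulAut.conj g).toMonoidHom with hL'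
    have hL'K : L' ≤ K := by
      rintro _ ⟨p, hp, rfl⟩
      exact hKn.conj_mem p (hLK hp) g
    have hL'n : ∀ k ∈ K, ∀ p ∈ L', k * p * k⁻¹ ∈ L' := by
      rintro k hk _ ⟨p, hp, rfl⟩
      refine ⟨(g⁻¹ * k * g) * p * (g⁻¹ * k * g)⁻¹, hLn _ ?_ p hp, ?_⟩
      · simpa using hKn.conj_mem k hk g⁻¹
      · simp only [MulEquiv.coe_toMonoidHom, MulAut.conj_apply]; group
    have hint : ∀ p ∈ L', p ∈ L → p = 1 := by
      intro p hp hpL
      have hLL : ((L ⊓ L').subgroupOf K).Normal := ⟨fun q hq k =>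
        mem_subgroupOf.2 ⟨hLn k k.2 q hq.1, hL'n k k.2 q hq.2⟩⟩
      rcases hM₀min _ hLL (fun q hq => (mem_map_iff_mem K.subtype_injective).1 hq.1) with h | h
      · have : (⟨p, hLK hpL⟩ : K) ∈ (L ⊓ L').subgroupOf K := mem_subgroupOf.2 ⟨hpL, hp⟩
        rw [h, mem_bot] at this
        exact congrArg Subtype.val this
      · exfalso
        have hle : L ≤ L' := fun q hq => by
          obtain ⟨q', hq', rfl⟩ := hq
          rw [← h] at hq'
          exact (mem_subgroupOf.1 hq').2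
        have heq : L = L' := Subgroup.eq_of_le_of_card_ge hle
          (by rw [hL', Subgroup.card_map_of_injective (MulAut.conj g).injective])
        exact hgl (heq ▸ ⟨l, hl, rfl⟩)
    have hcomm' : ∀ p ∈ L', ∀ q ∈ L, p * q = q * p := fun p hp q hq => by
      have h1 : p * q * p⁻¹ * q⁻¹ = 1 := hint _
        (by rw [show p * q * p⁻¹ * q⁻¹ = p * (q * p⁻¹ * q⁻¹) by group]; exact mul_mem hp (hL'n q (hLK hq) _ (inv_mem hp)))
        (mul_mem (hLn p (hL'K hp) q hq) (inv_mem hq))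
      calc p * q = (p * q * p⁻¹ * q⁻¹) * (q * p) := by group
        _ = q * p := by rw [h1, one_mul]
    obtain ⟨t, ht, ht1⟩ : ∃ t ∈ S ⊓ L, t ≠ 1 := by
      by_contra h
      push Not at h
      exact hmeet K L hSK hLK hL1 hLn ((eq_bot_iff_forall _).2 h)
    have hL'N : L' ≤ N := fun p hp =>
      hcent t ht.1 ht1 (mem_centralizer_singleton_iff.2 (hcomm' p hp t ht.2))
    have hL'1 : L' ≠ ⊥ := fun h =>
      hL1 ((map_eq_bot_iff_of_injective _ (MulAut.conj g).injective).1 h)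
    obtain ⟨r, hr, hr1⟩ : ∃ r ∈ S ⊓ L', r ≠ 1 := by
      by_contra h
      push Not at h
      exact hmeet K L' hSK hL'K hL'1 hL'n ((eq_bot_iff_forall _).2 h)
    refine hKN fun k hk => mem_normalizer_fintype fun s hs => ?_
    have hmem : k * r * k⁻¹ ∈ S := hthree _ (hL'N (hL'n k hk r hr.2)) (conj_three (hel r hr.1) k)
    have hne : k * r * k⁻¹ ≠ 1 := fun h => hr1 (conj_eq_one_iff.1 h)
    refine hthree _ (hcent _ hmem hne (mem_centralizer_singleton_iff.2 ?_)) (conj_three (hel s hs) k)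
    calc k * s * k⁻¹ * (k * r * k⁻¹) = k * (s * r) * k⁻¹ := by group
      _ = k * r * k⁻¹ * (k * s * k⁻¹) := by rw [hcomm s hs r hr.1]; group
  -- the hypotheses inside the simple subgroup
  haveI := hKsimple
  haveI := hKn
  set Q : Sylow 3 K := P.subtype hSK with hQdef
  have hQc : (Q : Subgroup K) = S.subgroupOf K := Sylow.coe_subtype ..
  have hQm : ∀ k : K, k ∈ (Q : Subgroup K) ↔ (k : G) ∈ S := fun k => by rw [hQc, mem_subgroupOf]
  have hQ9 : Nat.card (Q : Subgroup K) = 9 := by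
    rw [hQc, Nat.card_congr (subgroupOfEquivOfLe hSK).toEquiv, hcard]
  have hQel : ∀ q ∈ (Q : Subgroup K), q ^ 3 = 1 := fun q hq =>
    Subtype.ext (hel _ ((hQm q).1 hq))
  have hQcomm : ∀ p ∈ (Q : Subgroup K), ∀ q ∈ (Q : Subgroup K), p * q = q * p := fun p hp q hq =>
    Subtype.ext (hcomm _ ((hQm p).1 hp) _ ((hQm q).1 hq))
  have hQC : centralizer ((Q : Subgroup K) : Set K) = (Q : Subgroup K) := by
    refine le_antisymm (fun k hk => (hQm k).2 ?_) fun k hk => mem_centralizer_iff.2 fun p hp => hQcomm p hp k hk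
    rw [← hC, mem_centralizer_iff]
    intro s hs
    exact congrArg Subtype.val (mem_centralizer_iff.1 hk ⟨s, hSK hs⟩ ((hQm _).2 hs))
  set NK := normalizer ((Q : Subgroup K) : Set K) with hNK
  have hNKm : ∀ k : K, k ∈ NK ↔ (k : G) ∈ N := by
    intro k
    constructor
    · intro hk
      exact mem_normalizer_fintype fun s hs =>
        (hQm _).1 ((mem_normalizer_iff.1 hk ⟨s, hSK hs⟩).1 ((hQm _).2 hs))
    · intro hk
      exact mem_normalizer_fintype fun s hs => (hQm _).2 (hNc ⟨k, hk⟩ _ ((hQm s).1 hs))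
  have hcentK : ∀ g ∈ (Q : Subgroup K), g ≠ 1 → centralizer ({g} : Set K) ≤ NK := fun g hg hg1 c hc =>
    (hNKm c).2 (hcent _ ((hQm g).1 hg) (fun h => hg1 (Subtype.ext h)) (mem_centralizer_singleton_iff.2
      (congrArg Subtype.val (mem_centralizer_singleton_iff.1 hc))))
  let ρ : NK →* DihedralGroup 4 := π.comp (MonoidHom.mk' (fun k => (⟨((k : K) : G), (hNKm _).1 k.2⟩ : N))
    fun _ _ => rfl)
  have hρ : ∀ k : NK, ρ k = 1 ↔ (k : K) ∈ (Q : Subgroup K) := fun k => (hπ _).trans (hQm _).symm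
  set D := ρ.range with hD
  have hDmem : ∀ x : N, (x : G) ∈ K → π x ∈ D := fun x hx => ⟨⟨⟨x, hx⟩, (hNKm _).2 x.2⟩, rfl⟩
  have hDconj : ∀ c d, d ∈ D → c * d * c⁻¹ ∈ D := by
    rintro c _ ⟨k, rfl⟩
    obtain ⟨x, rfl⟩ := hπs c
    have : ρ k = π ⟨((k : K) : G), (hNKm _).1 k.2⟩ := rfl
    rw [this, ← map_inv, ← map_mul, ← map_mul]
    exact hDmem _ (hKn.conj_mem _ (k : K).2 x)
  have hKtopne : NK ≠ ⊤ := fun h => hKN fun k hk => (hNKm ⟨k, hk⟩).1 (h ▸ mem_top _)
  have hDbot : D ≠ ⊥ := by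
    intro hbot
    have hle : NK ≤ centralizer ((Q : Subgroup K) : Set K) := by
      intro k hk
      rw [hQC]
      exact (hρ ⟨k, hk⟩).1 (mem_bot.1 (hbot ▸ ⟨⟨k, hk⟩, rfl⟩))
    have hc := MonoidHom.ker_transferSylow_isComplement' Q hle
    rcases (MonoidHom.normal_ker (MonoidHom.transferSylow Q hle)).eq_bot_or_eq_top with h | h
    · have := hc
      rw [h, Subgroup.isComplement'_bot_left] at this
      exact hKtopne (eq_top_iff.2 (this ▸ le_normalizer))
    · rw [h, Subgroup.isComplement'_top_left] at hc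
      rw [hc, Subgroup.card_bot] at hQ9
      omega
  have hz : DihedralGroup.r 2 ∈ D := by
    obtain ⟨d, hd, hd1⟩ : ∃ d ∈ D, d ≠ 1 := by
      by_contra h
      push Not at h
      exact hDbot ((eq_bot_iff_forall D).2 h)
    rcases dih_facts.2.2.1 d hd1 with h | ⟨c, h⟩
    · exact h ▸ hd
    · exact h ▸ mul_mem (hDconj c d hd) (inv_mem hd)
  by_cases hrefl : ∃ k, DihedralGroup.sr k ∈ D
  · exfalso
    obtain ⟨k, hk⟩ := hrefl
    have hk2 : DihedralGroup.sr (k + 2) ∈ D := by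
      have := mul_mem hk hz
      rwa [DihedralGroup.sr_mul_r] at this
    by_cases hall : ∀ d ∈ D, d = 1 ∨ d = .r 2 ∨ d = .sr k ∨ d = .sr (k + 2)
    · -- Klein four quotient
      have hDset : ∀ d, d ∈ D ↔ d = 1 ∨ d = .r 2 ∨ d = .sr k ∨ d = .sr (k + 2) := fun d =>
        ⟨hall d, fun h => by rcases h with rfl | rfl | rfl | rfl; exacts [one_mem D, hz, hk, hk2]⟩
      have hker : ρ.ker = (Q : Subgroup K).subgroupOf NK := by
        ext x
        rw [MonoidHom.mem_ker, hρ, mem_subgroupOf]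
      haveI hn : ((Q : Subgroup K).subgroupOf NK).Normal := normal_subgroupOf_of_le_normalizer le_rfl
      let E : NK ⧸ (Q : Subgroup K).subgroupOf NK ≃* D :=
        (QuotientGroup.quotientMulEquivOfEq hker.symm).trans (QuotientGroup.quotientKerEquivRange ρ)
      have key : ∀ k : ZMod 4,
          (Finset.univ.filter fun d : DihedralGroup 4 => d = 1 ∨ d = .r 2 ∨ d = .sr k ∨ d = .sr (k + 2)).card = 4 ∧
          ∀ d : DihedralGroup 4, (d = 1 ∨ d = .r 2 ∨ d = .sr k ∨ d = .sr (k + 2)) → d * d = 1 := by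
        decide
      have h4 : Nat.card (NK ⧸ (Q : Subgroup K).subgroupOf NK) = 4 := by
        rw [Nat.card_congr E.toEquiv, Nat.card_congr (Equiv.subtypeEquivRight hDset), Nat.card_eq_fintype_card,
          Fintype.card_subtype]
        exact (key k).1
      have h2 : Monoid.exponent (NK ⧸ (Q : Subgroup K).subgroupOf NK) = 2 := by
        haveI : Nontrivial (NK ⧸ (Q : Subgroup K).subgroupOf NK) := Finite.one_lt_card_iff_nontrivial.1 (by omega)
        refine Monoid.exponent_eq_prime_iff Nat.prime_two |>.2 fun q hq => orderOf_eq_prime ?_ hq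
        apply E.injective
        rw [pow_two, map_mul, map_one]
        exact Subtype.ext ((key k).2 _ ((hDset _).1 (E q).2))
      exact hKtopne (ThreeNine.normalizer_eq_top_of_klein Q
        ⟨⟨⟨fun p q => Subtype.ext (hQcomm _ p.2 _ q.2)⟩⟩, hQel⟩ hQ9 hQC (hK := ⟨h4, h2⟩) hcentK)
    · -- everything
      push Not at hall
      obtain ⟨d, hd, h1, h2, h3, h4⟩ := hall
      have hr1 : DihedralGroup.r (1 : ZMod 4) ∈ D := by
        have key : ∀ (k : ZMod 4) (d : DihedralGroup 4), d ≠ 1 → d ≠ .r 2 → d ≠ .sr k → d ≠ .sr (k + 2) →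
            d = .r 1 ∨ d⁻¹ = .r 1 ∨ DihedralGroup.sr k * d = .r 1 ∨ d * DihedralGroup.sr k = .r 1 := by decide
        rcases key k d h1 h2 h3 h4 with h | h | h | h <;> rw [← h]
        exacts [hd, inv_mem hd, mul_mem hk hd, mul_mem hd hk]
      have hDtop : D = ⊤ := by
        refine eq_top_iff.2 fun c _ => ?_
        have key : ∀ (k : ZMod 4) (c : DihedralGroup 4), ∃ i : Fin 4,
            c = .r 1 ^ i.val ∨ c = DihedralGroup.sr k * .r 1 ^ i.val := by decide
        obtain ⟨i, rfl | rfl⟩ := key k c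
        exacts [pow_mem hr1 _, mul_mem hk (pow_mem hr1 _)]
      refine Cfsg.Agent.S3716.result Q hQ9 hQel hQC NK hNK hcentK (fun S2 => ?_) hKsimple
      haveI := Fact.mk Nat.prime_two
      have hρs : Function.Surjective ρ := MonoidHom.range_eq_top.1 hDtop
      have hinj : Function.Injective (ρ.comp (S2 : Subgroup NK).subtype) := by
        refine (injective_iff_map_eq_one _).2 fun s hs => ?_
        obtain ⟨j, hj⟩ := S2.2 s
        have h3 : s ^ 3 = 1 := Subtype.ext (Subtype.ext (hQel _ ((hρ _).1 hs)))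
        exact (pow_eq_one_iff_of_coprime ((Nat.coprime_pow_right_iff (n := j + 1) (Nat.succ_pos _) 3 2).2 (by norm_num))).1
          ⟨h3, by rw [pow_succ, pow_mul, hj, one_pow]⟩
      have hker : ρ.ker = (Q : Subgroup K).subgroupOf NK := by
        ext x
        rw [MonoidHom.mem_ker, hρ, mem_subgroupOf]
      have h72 : Nat.card NK = 72 := by
        rw [Subgroup.card_eq_card_quotient_mul_card_subgroup ρ.ker,
          Nat.card_congr (QuotientGroup.quotientKerEquivOfSurjective ρ hρs).toEquiv, hker,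
          Nat.card_congr (subgroupOfEquivOfLe le_normalizer).toEquiv, hQ9, Nat.card_eq_fintype_card,
          DihedralGroup.card]
      have h8 : Nat.card (S2 : Subgroup NK) = Nat.card (DihedralGroup 4) := by
        rw [S2.card_eq_multiplicity, h72, Nat.card_eq_fintype_card (α := DihedralGroup 4), DihedralGroup.card]
        have : (72 : ℕ).factorization 2 = 3 := by
          rw [show (72 : ℕ) = 2 ^ 3 * 9 by norm_num, Nat.factorization_mul (by norm_num) (by norm_num),
            Finsupp.add_apply, Nat.prime_two.factorization_pow, Finsupp.single_eq_same,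
            Nat.factorization_eq_zero_of_not_dvd (show ¬ 2 ∣ 9 by norm_num)]
        rw [this]
        norm_num
      exact ⟨MulEquiv.ofBijective _ ((Nat.bijective_iff_injective_and_card _).2 ⟨hinj, h8⟩)⟩
  -- only rotations
  push Not at hrefl
  have hrot : ∀ d ∈ D, d = .r 0 ∨ d = .r 1 ∨ d = .r 2 ∨ d = .r 3 := fun d hd => by
    rcases dih_facts.2.2.2.1 d with h | h | h | h | ⟨k, rfl⟩
    exacts [Or.inl h, Or.inr (Or.inl h), Or.inr (Or.inr (Or.inl h)), Or.inr (Or.inr (Or.inr h)),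
      absurd hd (hrefl k)]
  have wfix : ∀ w : N, π w = .r 2 → ∀ s ∈ S, (w : G) * s * (w : G)⁻¹ = s → s = 1 := by
    intro w hw s hs hfix
    let T : Subgroup G :=
      { carrier := {t | t ∈ S ∧ (w : G) * t * (w : G)⁻¹ = t}
        one_mem' := ⟨one_mem S, by group⟩
        mul_mem' := fun {p q} hp hq => ⟨mul_mem hp.1 hq.1, by
          conv_rhs => rw [← hp.2, ← hq.2]
          group⟩
        inv_mem' := fun {p} hp => ⟨inv_mem hp.1, by
          conv_rhs => rw [← hp.2]
          group⟩ }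
    by_contra hs1
    have hT : T = S := irr T (fun t ht => ht.1) (fun h => hs1 (mem_bot.1 (h ▸ (⟨hs, hfix⟩ : s ∈ T))))
      fun n t ht => ⟨hNc n t ht.1, by
        have hm : ((w⁻¹ * n⁻¹ * w * n : N) : G) ∈ S := (hπ _).1 (by
          rw [map_mul, map_mul, map_mul, map_inv, map_inv, hw, mul_assoc (DihedralGroup.r 2 : DihedralGroup 4)⁻¹,
            ← dih_facts.2.2.2.2, ← mul_assoc, inv_mul_cancel, one_mul, inv_mul_cancel])
        push_cast at hm
        have hc := hcomm _ hm _ ht.1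
        calc (w : G) * ((n : G) * t * (n : G)⁻¹) * (w : G)⁻¹
            = (n : G) * w * (((w : G)⁻¹ * (n : G)⁻¹ * w * n) * t * ((w : G)⁻¹ * (n : G)⁻¹ * w * n)⁻¹) *
                (w : G)⁻¹ * (n : G)⁻¹ := by group
          _ = (n : G) * ((w : G) * t * (w : G)⁻¹) * (n : G)⁻¹ := by rw [hc]; group
          _ = _ := by rw [ht.2]⟩
    have h1 := hinS w fun t ht => (hT.symm ▸ ht : t ∈ T).2
    rw [hw] at h1
    exact absurd h1 (by decide)
  have hselfK : ∀ s ∈ (Q : Subgroup K), s ≠ 1 → centralizer ({s} : Set K) = (Q : Subgroup K) := by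
    intro s hs hs1
    refine le_antisymm (fun c hc => ?_) fun c hc => mem_centralizer_singleton_iff.2 (hQcomm c hc s hs)
    have hcN : c ∈ NK := hcentK s hs hs1 hc
    by_contra hcQ
    have hfix : (c : G) * s * (c : G)⁻¹ = s :=
      mul_inv_eq_iff_eq_mul.2 (congrArg Subtype.val (mem_centralizer_singleton_iff.1 hc))
    have hne : π ⟨(c : G), (hNKm c).1 hcN⟩ ≠ 1 := fun h => hcQ ((hQm c).2 ((hπ _).1 h))
    have hs1' : (s : G) ≠ 1 := fun h => hs1 (Subtype.ext h)
    rcases hrot _ (hDmem ⟨(c : G), (hNKm c).1 hcN⟩ c.2) with h | h | h | h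
    · exact hne (h.trans DihedralGroup.r_zero)
    all_goals
      obtain ⟨v, hv, hvs⟩ : ∃ v : N, π v = .r 2 ∧ (v : G) * s * (v : G)⁻¹ = s := by
        first
          | exact ⟨⟨(c : G), (hNKm c).1 hcN⟩, h, hfix⟩
          | exact ⟨⟨(c : G), (hNKm c).1 hcN⟩ * ⟨(c : G), (hNKm c).1 hcN⟩, by rw [map_mul, h]; decide,
              by push_cast; rw [← conj_conj, hfix, hfix]⟩
      exact hs1' (wfix v hv _ ((hQm s).1 hs) hvs)
  cases nonempty_fintype G
  let F : G → DihedralGroup 4 → G := fun a d =>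
    ((Function.surjInv (f := ⇑π) hπs d : N) : G) * a * ((Function.surjInv (f := ⇑π) hπs d : N) : G)⁻¹
  have hF : ∀ a ∈ S, ∀ n : N, (n : G) * a * (n : G)⁻¹ = F a (π n) := by
    intro a ha n
    set m := Function.surjInv (f := ⇑π) hπs (π n)
    have hm : ((m⁻¹ * n : N) : G) ∈ S := (hπ _).1 (by
      rw [map_mul, map_inv, Function.surjInv_eq hπs, inv_mul_cancel])
    push_cast at hm
    calc (n : G) * a * (n : G)⁻¹ = (m : G) * (((m : G)⁻¹ * n) * a * ((m : G)⁻¹ * n)⁻¹) * (m : G)⁻¹ := by group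
      _ = (m : G) * a * (m : G)⁻¹ := by rw [hcomm _ hm a ha]; group
      _ = F a (π n) := rfl
  have hbig : ∀ a ∈ S, ¬ ∀ c ∈ S, c ≠ 1 → ∃ n : N,
      (π n = .r 0 ∨ π n = .r 1 ∨ π n = .r 2 ∨ π n = .r 3) ∧ (n : G) * a * (n : G)⁻¹ = c := by
    intro a ha h
    have hsub : (Finset.univ.filter fun c => c ∈ S).erase 1 ⊆
        ({.r 0, .r 1, .r 2, .r 3} : Finset (DihedralGroup 4)).image (F a) := by
      intro c hc
      obtain ⟨hc1, hc⟩ := Finset.mem_erase.1 hc
      obtain ⟨n, hn, rfl⟩ := h c (Finset.mem_filter.1 hc).2 hc1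
      exact Finset.mem_image.2 ⟨π n, by simpa using hn, (hF a ha n).symm⟩
    have h1 := (Finset.card_le_card hsub).trans Finset.card_image_le
    rw [Finset.card_erase_of_mem (by simp), ← Fintype.card_subtype, ← Nat.card_eq_fintype_card] at h1
    have h2 : Nat.card {c // c ∈ S} = 9 := hcard
    rw [h2] at h1
    exact absurd h1 (by decide)
  have hfus : ∀ g a, a ∈ S → a ≠ 1 → g * a * g⁻¹ ∈ S → g ∈ N := fun g a ha ha1 hga =>
    mem_normalizer_fintype fun s hs => hthree _ (hcent _ hga (fun h => ha1 (conj_eq_one_iff.1 h))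
      (mem_centralizer_singleton_iff.2 (by
        calc g * s * g⁻¹ * (g * a * g⁻¹) = g * (s * a) * g⁻¹ := by group
          _ = g * a * g⁻¹ * (g * s * g⁻¹) := by rw [hcomm s hs a ha]; group))) (conj_three (hel s hs) g)
  have hfus' : ∀ a b : K, a ∈ (Q : Subgroup K) → a ≠ 1 → b ∈ (Q : Subgroup K) → IsConj a b →
      ∃ n : N, (π n = .r 0 ∨ π n = .r 1 ∨ π n = .r 2 ∨ π n = .r 3) ∧ (n : G) * a * (n : G)⁻¹ = b := by
    intro a b ha ha1 hb hab
    obtain ⟨k, rfl⟩ := isConj_iff.1 hab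
    have hkN := hfus k a ((hQm a).1 ha) (fun h => ha1 (Subtype.ext h)) ((hQm _).1 hb)
    exact ⟨⟨k, hkN⟩, hrot _ (hDmem _ k.2), rfl⟩
  have hord : ∀ q ∈ (Q : Subgroup K), q ≠ 1 → orderOf q = 3 := fun q hq hq1 => orderOf_eq_prime (hQel q hq) hq1
  obtain ⟨e⟩ : Nonempty (K ≃* alternatingGroup (Fin 6)) := by
    refine Cfsg.Agent.S3341.result Q (Q : Subgroup K) rfl ⟨⟨fun p q => Subtype.ext (hQcomm _ p.2 _ q.2)⟩⟩ hQel hQ9
      ?_ hselfK
    obtain ⟨a, ha, ha1⟩ : ∃ a ∈ (Q : Subgroup K), a ≠ 1 := by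
      by_contra h
      push Not at h
      rw [(eq_bot_iff_forall (Q : Subgroup K)).2 h, Subgroup.card_bot] at hQ9
      omega
    by_contra hone
    push Not at hone
    refine hbig a ((hQm a).1 ha) fun c hc hc1 => ?_
    obtain ⟨k, hk⟩ := hone a ⟨c, hSK hc⟩ (hord a ha ha1)
      (hord _ ((hQm _).2 hc) fun h => hc1 (congrArg Subtype.val h))
    exact hfus' a ⟨c, hSK hc⟩ ha ha1 ((hQm _).2 hc) (isConj_iff.2 ⟨k, hk⟩)
  let tc : K → Prop := fun q => (e q : Perm (Fin 6)).IsThreeCycle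
  have tc_ord : ∀ q, tc q → orderOf q = 3 := fun q hq => by
    rw [← e.orderOf_eq, ← Subgroup.orderOf_coe]; exact hq.orderOf
  have tc_class : ∀ p q : K, orderOf p = 3 → orderOf q = 3 → (tc p ↔ tc q) → IsConj p q := by
    intro p q hp hq h
    have hc : IsConj (e p) (e q) := by
      by_cases hp' : tc p
      · exact alternatingGroup.isThreeCycle_isConj (by simp) hp' (h.1 hp')
      · exact conj_of_not_threeCycle (by rw [e.orderOf_eq, hp]) (by rw [e.orderOf_eq, hq]) hp' fun h' => hp' (h.2 h')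
    simpa using e.symm.toMonoidHom.map_isConj hc
  have tc_conj : ∀ p q : K, IsConj p q → tc p → tc q := by
    intro p q hpq hp
    obtain ⟨k, rfl⟩ := isConj_iff.1 hpq
    show ((e (k * p * k⁻¹) : alternatingGroup (Fin 6)) : Perm (Fin 6)).IsThreeCycle
    rw [map_mul, map_mul, map_inv]
    push_cast
    have hp' : (e p : Perm (Fin 6)).cycleType = {3} := hp
    simpa [Perm.IsThreeCycle, Perm.cycleType_conj] using hp'
  -- the normalizer keeps the two classes
  have hpresN : ∀ n : N, ∀ q : K, tc q → tc (MulAut.conjNormal (n : G) q) := by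
    intro n q hq
    by_contra hnq
    have hY : IsPGroup 3 (zpowers q) := IsPGroup.of_card (n := 1) (by rw [Nat.card_zpowers, tc_ord q hq, pow_one])
    obtain ⟨R, hR⟩ := hY.exists_le_sylow
    obtain ⟨k, hk⟩ := MulAction.exists_smul_eq K R Q
    set a := k * q * k⁻¹ with ha'
    have ha : a ∈ (Q : Subgroup K) := by
      rw [← hk, Sylow.coe_subgroup_smul]
      exact Subgroup.smul_mem_pointwise_smul _ (MulAut.conj k) _ (hR (mem_zpowers _))
    have hat : tc a := tc_conj q a (isConj_iff.2 ⟨k, rfl⟩) hq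
    have hb : MulAut.conjNormal (n : G) a ∈ (Q : Subgroup K) :=
      (hQm _).2 (by rw [MulAut.conjNormal_apply]; exact hNc n _ ((hQm a).1 ha))
    have hbt : ¬ tc (MulAut.conjNormal (n : G) a) := fun h => hnq (tc_conj _ _
      (isConj_iff.2 ⟨(MulAut.conjNormal (n : G) k)⁻¹, by rw [ha', map_mul, map_mul, map_inv]; group⟩) h)
    have ha1 : a ≠ 1 := fun h => by
      have := tc_ord a hat
      rw [h, orderOf_one] at this
      omega
    have hall : ∀ c ∈ S, c ≠ 1 → ∃ m : N, (m : G) * a * (m : G)⁻¹ = c := by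
      intro c hc hc1
      have hco := hord _ ((hQm (⟨c, hSK hc⟩ : K)).2 hc) fun h => hc1 (congrArg Subtype.val h)
      by_cases hct : tc ⟨c, hSK hc⟩
      · obtain ⟨m, -, hm⟩ := hfus' a ⟨c, hSK hc⟩ ha ha1 ((hQm _).2 hc)
          (tc_class _ _ (tc_ord a hat) hco ⟨fun _ => hct, fun _ => hat⟩)
        exact ⟨m, hm⟩
      · obtain ⟨m, -, hm⟩ := hfus' _ ⟨c, hSK hc⟩ hb (fun h => ha1 ((map_eq_one_iff _ (MulEquiv.injective _)).1 h))
          ((hQm _).2 hc) (tc_class _ _ (by rw [MulEquiv.orderOf_eq, tc_ord a hat]) hco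
            ⟨fun h => absurd h hbt, fun h => absurd h hct⟩)
        refine ⟨m * n, ?_⟩
        rw [MulAut.conjNormal_apply, conj_conj] at hm
        simpa using hm
    -- a point fixed by a reflection
    obtain ⟨y, hy⟩ := hπs (.sr 0)
    obtain ⟨w, hw⟩ := hπs (.r 2)
    obtain ⟨b, hb', hb1, hyb⟩ : ∃ b ∈ S, b ≠ 1 ∧ (y : G) * b * (y : G)⁻¹ = b := by
      by_contra hcon
      push Not at hcon
      have hinv : ∀ v : N, π (v * v) = 1 → (∀ s ∈ S, (v : G) * s * (v : G)⁻¹ = s → s = 1) →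
          ∀ s ∈ S, (v : G) * s * (v : G)⁻¹ = s⁻¹ := by
        intro v hv hvf s hs
        have h1 := (hπ _).1 hv
        push_cast at h1
        refine eq_inv_of_mul_eq_one_right (hvf _ (mul_mem hs (hNc v s hs)) ?_)
        calc (v : G) * (s * ((v : G) * s * (v : G)⁻¹)) * (v : G)⁻¹
            = ((v : G) * s * (v : G)⁻¹) * (((v : G) * v) * s * ((v : G) * v)⁻¹) := by group
          _ = _ := by rw [hcomm _ h1 s hs, mul_inv_cancel_right, hcomm _ (hNc v s hs) s hs]
      have hy' := hinv y (by rw [map_mul, hy]; decide)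
        fun s hs h => by_contra fun h' => hcon s hs h' h
      have hw' := hinv w (by rw [map_mul, hw]; decide) (wfix w hw)
      have := hinS (y * w) fun s hs => by
        push_cast
        rw [← conj_conj, hw' s hs, hy' _ (inv_mem hs), inv_inv]
      rw [map_mul, hy, hw] at this
      exact absurd this (by decide)
    refine hbig b hb' fun c hc hc1 => ?_
    obtain ⟨m, hm⟩ := hall b hb' hb1
    obtain ⟨m', hm'⟩ := hall c hc hc1
    set v := m' * m⁻¹ with hv
    have hvb : (v : G) * b * (v : G)⁻¹ = c := by rw [hv, ← hm, ← hm']; push_cast; group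
    by_cases hvr : π v = .r 0 ∨ π v = .r 1 ∨ π v = .r 2 ∨ π v = .r 3
    · exact ⟨v, hvr, hvb⟩
    · refine ⟨v * y, ?_, by push_cast; rw [← conj_conj, hyb, hvb]⟩
      rcases dih_facts.2.2.2.1 (π v) with h | h | h | h | ⟨k, h⟩
      iterate 4 exact absurd (by simp [h]) hvr
      rw [map_mul, h, hy]
      have key : ∀ k : ZMod 4, (DihedralGroup.sr k * .sr 0 = DihedralGroup.r 0) ∨
          DihedralGroup.sr k * .sr 0 = DihedralGroup.r 1 ∨ DihedralGroup.sr k * .sr 0 = DihedralGroup.r 2 ∨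
          DihedralGroup.sr k * .sr 0 = DihedralGroup.r 3 := by decide
      exact key k
  have hpres : ∀ g : G, ∀ q : K, tc q → tc (MulAut.conjNormal g q) := by
    intro g q hq
    have htop := Sylow.normalizer_sup_eq_top Q
    have hmap : (Q : Subgroup K).map K.subtype = S := by rw [hQc]; exact map_subgroupOf_eq_of_le hSK
    rw [hmap] at htop
    obtain ⟨n, hn, k, hk, rfl⟩ := mem_sup_of_normal_right.1 (htop.symm ▸ mem_top g : g ∈ N ⊔ K)
    rw [map_mul]
    refine hpresN ⟨n, hn⟩ _ (tc_conj q _ (isConj_iff.2 ⟨⟨k, hk⟩, Subtype.ext ?_⟩) hq)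
    exact (MulAut.conjNormal_apply k q).symm
  let φ : G →* MulAut (alternatingGroup (Fin 6)) := MonoidHom.mk'
    (fun g => (e.symm.trans (MulAut.conjNormal g : MulAut K)).trans e)
    fun g h => MulEquiv.ext fun x => by simp [map_mul, MulAut.mul_apply]
  have hσ : ∀ g, ∃ σ : Perm (Fin 6), MulAut.conjNormal σ = φ g := fun g =>
    FGStruct.exists_conjNormal_eq_of_threeCycle_map (by simp) (φ g) fun x hx =>
      hpres g (e.symm x) (show ((e (e.symm x) : alternatingGroup (Fin 6)) : Perm (Fin 6)).IsThreeCycle by simpa using hx)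
  choose σ hσ using hσ
  have cinj := AltAut.conjNormal_injective (α := Fin 6) (by simp)
  let Ψ : G →* Perm (Fin 6) := MonoidHom.mk' σ fun g h => cinj (by rw [map_mul, hσ, hσ, hσ, map_mul])
  have hΨK : ∀ k : K, Ψ (k : G) = (e k : Perm (Fin 6)) := fun k => cinj (by
    show MulAut.conjNormal (σ k) = _
    rw [hσ]
    refine MulEquiv.ext fun x => ?_
    obtain ⟨x, rfl⟩ := e.surjective x
    refine Subtype.ext ?_
    simp only [φ, MonoidHom.mk'_apply, MulEquiv.trans_apply, MulEquiv.symm_apply_apply, MulAut.conjNormal_apply]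
    have : (MulAut.conjNormal (k : G) : MulAut K) x = k * x * k⁻¹ := Subtype.ext (by simp [MulAut.conjNormal_apply])
    rw [this]
    simp)
  have hinj : Function.Injective Ψ := by
    refine (injective_iff_map_eq_one _).2 fun g hg => ?_
    have hφ : φ g = 1 := by rw [← hσ g, show σ g = 1 from hg, map_one]
    have hcK : ∀ k : K, g * (k : G) * g⁻¹ = k := fun k => by
      have h := congrArg (fun ψ : MulAut (alternatingGroup (Fin 6)) => e.symm (ψ (e k))) hφ
      simp only [φ, MonoidHom.mk'_apply, MulEquiv.trans_apply, MulEquiv.symm_apply_apply, MulAut.one_apply] at h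
      have h' := congrArg Subtype.val h
      rwa [MulAut.conjNormal_apply] at h'
    have hgS : g ∈ S := by
      rw [← hC, mem_centralizer_iff]
      exact fun s hs => (mul_inv_eq_iff_eq_mul.1 (hcK ⟨s, hSK hs⟩)).symm
    have h1 : (e ⟨g, hSK hgS⟩ : Perm (Fin 6)) = 1 := by rw [← hΨK ⟨g, hSK hgS⟩]; exact hg
    exact congrArg Subtype.val (e.injective (show e ⟨g, hSK hgS⟩ = e 1 by rw [map_one]; exact Subtype.ext h1))
  have hrange : ∀ τ ∈ alternatingGroup (Fin 6), τ ∈ Ψ.range := fun τ hτ =>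
    ⟨(e.symm ⟨τ, hτ⟩ : G), by rw [hΨK]; simp⟩
  obtain ⟨τ, ⟨g₀, hg₀⟩, hodd⟩ : ∃ τ ∈ Ψ.range, τ ∉ alternatingGroup (Fin 6) := by
    by_contra h
    push Not at h
    obtain ⟨y, hy⟩ := hπs (.sr 0)
    refine hrefl 0 (hy ▸ hDmem y ?_)
    obtain ⟨k, hk⟩ := e.surjective ⟨Ψ y, h _ ⟨y, rfl⟩⟩
    have : (y : G) = k := hinj (by rw [hΨK, hk])
    rw [this]
    exact k.2
  refine Or.inr ⟨MulEquiv.ofBijective Ψ ⟨hinj, fun ρ' => ?_⟩⟩
  show ρ' ∈ Ψ.range
  by_cases h : ρ' ∈ alternatingGroup (Fin 6)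
  · exact hrange _ h
  · have h2 : ρ' * τ⁻¹ ∈ alternatingGroup (Fin 6) := by
      rw [Perm.mem_alternatingGroup] at h hodd ⊢
      rw [map_mul, map_inv]
      rw [(Int.units_eq_one_or (Perm.sign ρ')).resolve_left h,
        (Int.units_eq_one_or (Perm.sign τ)).resolve_left hodd]
      decide
    simpa using mul_mem (hrange _ h2) (⟨g₀, hg₀⟩ : τ ∈ Ψ.range)

end CfsgLib.WreathNine
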